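import Cfsg.Agent.CoThreeStd.DC2.Psi
import Cfsg.Agent.CoThreeStd.BoundS.Tabs

/-!
# The six relator types of the double coset enumeration over `(M₁₂ : 2) × 2`
-/

set_option autoImplicit false
set_option maxRecDepth 100000

namespace Cfsg.Agent.CoThreeStd.DC2.HW

open Cfsg.Agent.CoThreeStd.SuzP.Data Cfsg.Agent.CoThreeStd.SuzP.Pres
open Cfsg.Agent.CoThreeStd.DC2.Alpha Cfsg.Agent.CoThreeStd.DC2.Model Cfsg.Agent.CoThreeStd.DC2.Psi
open Cfsg.Agent.CoThreeStd.DC2.Eng (Mv Ty)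
open Cfsg.Agent.CoThreeStd.DC2.Sound (Val)

/-- `A = s b y p r b s` -/
def A : List ℕ := [4, 5, 0, 1, 3, 5, 4]
/-- `ρ` -/
def rho : List ℕ := [2, 5, 0, 5, 4, 3, 5, 0, 5, 1]
/-- `ρ⁻¹` -/
def rhoI : List ℕ := [1, 5, 0, 5, 3, 4, 5, 0, 5, 2]

theorem e1 : fw [1] = 0x7453b19a8062537492b8a601 := by decide +kernel
theorem eqA : fw ([2] ++ A) = 0x720b4a3915687901a482b563 := by decide +kernel
theorem eqAq : fw ([2] ++ A ++ [2]) = 0x685a1b934072546329ba8701 := by decide +kernel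
theorem eA : fw A = 0x39a15072b4864189670b23a5 := by decide +kernel
theorem eAq : fw (A ++ [2]) = 0x8640b1275a3937a5b1260489 := by decide +kernel
theorem erI : fw rhoI = 0xb98a564730218b9a51347620 := by decide +kernel
theorem eAA : fw (A ++ A) = Eng.idF := by decide +kernel
theorem err : fw (rho ++ rhoI) = Eng.idF := by decide +kernel

theorem gw_append (w w' : List ℕ) : gw (w ++ w') = gw w * gw w' := by
  unfold gw; rw [List.map_append, List.prod_append]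

theorem gw_one {w : List ℕ} (hw : ∀ q ∈ w, q < 8) (h : fw w = Eng.idF) : gw w = 1 := by
  apply mod.finj
  rw [fl_gw w hw, h]
  exact mod.fone.symm

attribute [local irreducible] fw

section

variable {K : Type*} [Group K] {g : Lt → K}

/-- **The field `hW`.** -/
theorem hW (hr : ∀ w ∈ rels, (w.map g).prod = 1)
    (h4 : (([.q, .b, .y, .b, .s, .r, .b, .y, .b, .p, .D] : List Lt).map g).prod ^ 4 = 1) :
    ∀ y ∈ BoundS.Data.tabs.W, ∃ (w : CC) (v : K), mod.fl w = y.w1 ∧ Val mod (psiP hr) (g .d) y.ws v ∧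
      g .d * psiP hr w * v = 1 := by
  set ψ := psiP hr with hψ
  set d := g .d with hd
  have hsub : ∀ {w : List ℕ}, (w.all fun q => Nat.blt q 8) = true → ∀ q ∈ w, q < 8 := by
    intro w h q hq
    have := List.all_eq_true.1 h q hq
    rwa [Nat.blt_eq] at this
  have hA : ∀ q ∈ A, q < 8 := hsub (by decide)
  have hqA : ∀ q ∈ [2] ++ A, q < 8 := hsub (by decide)
  have hqAq : ∀ q ∈ [2] ++ A ++ [2], q < 8 := hsub (by decide)
  have hAq : ∀ q ∈ A ++ [2], q < 8 := hsub (by decide)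
  have hrI : ∀ q ∈ rhoI, q < 8 := hsub (by decide)
  have hrr : ∀ q ∈ rho, q < 8 := hsub (by decide)
  have hone : ψ (gw []) = 1 := map_one ψ
  set a := ψ (gw A) with ha
  set q := ψ (gw [2]) with hq
  have hqg : q = g .q := by
    rw [hq, hψ, psiP_gw hr [2] (hsub (by decide))]
    simp [L8]
  have hqq : q * q = 1 := by rw [hqg]; exact sq_of hr .q (by decide)
  have haa : a * a = 1 := by
    rw [ha, ← map_mul, ← gw_append, gw_one (hsub (by decide)) eAA, map_one]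
  have haw : a = (([.s, .b, .y, .p, .r, .b, .s] : List Lt).map g).prod := by
    rw [ha, hψ, psiP_gw hr A hA]; rfl
  have f1 : ψ (gw ([2] ++ A)) = q * a := by rw [gw_append, map_mul]
  have f2 : ψ (gw ([2] ++ A ++ [2])) = q * a * q := by rw [gw_append, gw_append, map_mul, map_mul]
  have f3 : ψ (gw (A ++ [2])) = a * q := by rw [gw_append, map_mul]
  -- the relator
  have h0 : d⁻¹ * a * d * (q * a) * d * (q * a * q) = 1 := by
    have h := hr [.D, .s, .b, .y, .p, .r, .b, .s, .d, .q, .s, .b, .y, .p, .r, .b, .s, .d, .q, .s, .b, .y, .p, .r,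
      .b, .s, .q] (by decide)
    rw [← h, hqg, haw]
    simp only [List.map_cons, List.map_nil, List.prod_cons, List.prod_nil, mul_one, D_eq hr, ← hd]
    simp only [mul_assoc]
  have hv : ∀ (s : ℕ) (w : List ℕ) (n : ℕ), (∀ q ∈ w, q < 8) → fw w = n → ∀ ws v, Val mod ψ d ws v →
      Val mod ψ d (⟨s, n⟩ :: ws) ((if s = 0 then d else d⁻¹) * ψ (gw w) * v) := by
    intro s w n hw hn ws v h
    exact Val.cons ⟨s, n⟩ ws (gw w) v ((fl_gw w hw).trans hn) h
  have hz : ∀ (w : List ℕ) (n : ℕ), (∀ q ∈ w, q < 8) → fw w = n → ∀ ws v, Val mod ψ d ws v →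
      Val mod ψ d (⟨0, n⟩ :: ws) (d * ψ (gw w) * v) := fun w n hw hn ws v h => hv 0 w n hw hn ws v h
  have ho : ∀ (w : List ℕ) (n : ℕ), (∀ q ∈ w, q < 8) → fw w = n → ∀ ws v, Val mod ψ d ws v →
      Val mod ψ d (⟨1, n⟩ :: ws) (d⁻¹ * ψ (gw w) * v) := fun w n hw hn ws v h => hv 1 w n hw hn ws v h
  have hnil : Val mod ψ d [] 1 := Val.nil
  have e0 : fw [] = 0xba9876543210ba9876543210 := by with_unfolding_all rfl
  intro y hy
  have hy' : y ∈ BoundS.Data.types := hy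
  unfold BoundS.Data.types at hy'
  simp only [List.mem_cons, List.not_mem_nil, or_false] at hy'
  rcases hy' with rfl | rfl | rfl | rfl | rfl | rfl
  · refine ⟨gw [], _, (fl_gw [] (by simp)).trans e0, hz [] _ (by simp) e0 _ _ (hz [] _ (by simp) e0 _ _ hnil), ?_⟩
    simp only [hone, mul_one, ← mul_assoc]
    exact ddd hr
  · refine ⟨gw [1], _, (fl_gw [1] (hsub (by decide))).trans e1, hz [1] _ (hsub (by decide)) e1 _ _ hnil, ?_⟩
    have h1 : ψ (gw [1]) = g .p := by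
      rw [hψ, psiP_gw hr [1] (hsub (by decide))]; simp [L8]
    have h2 : g .p * (d * (g .p * d)) = 1 := by simpa [mul_assoc] using hr [.p, .d, .p, .d] (by decide)
    rw [h1, mul_one]
    calc d * g .p * (d * g .p) = (g .p)⁻¹ * (g .p * (d * (g .p * d))) * g .p := by group
      _ = 1 := by rw [h2]; group
  · refine ⟨gw ([2] ++ A), _, (fl_gw _ hqA).trans eqA, hz _ _ hqAq eqAq _ _ (ho _ _ hA eA _ _ hnil), ?_⟩
    rw [f1, f2, ← ha]
    calc d * (q * a) * (d * (q * a * q) * (d⁻¹ * a * 1))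
        = (d⁻¹ * a)⁻¹ * (d⁻¹ * a * d * (q * a) * d * (q * a * q)) * (d⁻¹ * a) := by group
      _ = 1 := by rw [h0]; group
  · refine ⟨gw ([2] ++ A ++ [2]), _, (fl_gw _ hqAq).trans eqAq, ho _ _ hA eA _ _ (hz _ _ hqA eqA _ _ hnil), ?_⟩
    rw [f1, f2, ← ha]
    calc d * (q * a * q) * (d⁻¹ * a * (d * (q * a) * 1))
        = (d⁻¹ * a * d * (q * a))⁻¹ * (d⁻¹ * a * d * (q * a) * d * (q * a * q)) * (d⁻¹ * a * d * (q * a)) := by group
      _ = 1 := by rw [h0]; group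
  · refine ⟨gw ([2] ++ A ++ [2]), _, (fl_gw _ hqAq).trans eqAq, ho _ _ hAq eAq _ _ (ho _ _ hA eA _ _ hnil), ?_⟩
    rw [f2, f3, ← ha]
    have hqi : q⁻¹ = q := inv_eq_of_mul_eq_one_right hqq
    have hai : a⁻¹ = a := inv_eq_of_mul_eq_one_right haa
    have h5 : d * (q * a * q) * (d⁻¹ * (a * q) * (d⁻¹ * a * 1)) =
        d * (q⁻¹ * a⁻¹ * q⁻¹) * (d⁻¹ * (a⁻¹ * q⁻¹) * (d⁻¹ * a⁻¹ * 1)) := by rw [hqi, hai]
    rw [h5]
    calc d * (q⁻¹ * a⁻¹ * q⁻¹) * (d⁻¹ * (a⁻¹ * q⁻¹) * (d⁻¹ * a⁻¹ * 1))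
        = d * (d⁻¹ * a * d * (q * a) * d * (q * a * q))⁻¹ * d⁻¹ := by group
      _ = 1 := by rw [h0]; group
  · refine ⟨gw rhoI, _, (fl_gw _ hrI).trans erI, hz _ _ hrI erI _ _ (hz _ _ hrI erI _ _ (hz _ _ hrI erI _ _ hnil)),
      ?_⟩
    have h1 : ψ (gw rho) * ψ (gw rhoI) = 1 := by
      rw [← map_mul, ← gw_append, gw_one (hsub (by decide)) err, map_one]
    have h2 : ψ (gw rho) = (([.q, .b, .y, .b, .s, .r, .b, .y, .b, .p] : List Lt).map g).prod := by
      rw [hψ, psiP_gw hr rho hrr]; rfl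
    have h3 : (([.q, .b, .y, .b, .s, .r, .b, .y, .b, .p, .D] : List Lt).map g).prod = ψ (gw rho) * d⁻¹ := by
      rw [h2]
      simp only [List.map_cons, List.map_nil, List.prod_cons, List.prod_nil, mul_one, D_eq hr, ← hd]
      simp only [mul_assoc]
    rw [h3] at h4
    have h5 : ψ (gw rhoI) = (ψ (gw rho))⁻¹ := eq_inv_of_mul_eq_one_right h1
    rw [h5]
    generalize ψ (gw rho) = x at *
    calc d * x⁻¹ * (d * x⁻¹ * (d * x⁻¹ * (d * x⁻¹ * 1))) = ((x * d⁻¹) ^ 4)⁻¹ := by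
          rw [← inv_pow]; simp only [mul_inv_rev, inv_inv, pow_succ, pow_zero, one_mul, mul_one, mul_assoc]
      _ = 1 := by rw [h4, inv_one]

end

end Cfsg.Agent.CoThreeStd.DC2.HW
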