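import Cfsg.Agent.CoThreeStd.DC2.Model
import Cfsg.Agent.CoThreeStd.SuzP.Pres

/-!
# The homomorphism from `(M₁₂ : 2) × 2` to a group with the relations of `P`
-/

set_option autoImplicit false

namespace Cfsg.Agent.CoThreeStd.DC2.Psi

open Cfsg.Agent.CoThreeStd.SuzP.Data Cfsg.Agent.CoThreeStd.SuzP.Pres
open Cfsg.Agent.CoThreeStd.M12 (G12 lt el el_single)
open Cfsg.Agent.CoThreeStd.DC2.MPres (RB)
open Cfsg.Agent.CoThreeStd.DC2.Alpha Cfsg.Agent.CoThreeStd.DC2.Model

/-- the letters `y p q r s b c t` -/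
def L8 (q : ℕ) : Lt := [Lt.y, .p, .q, .r, .s, .b, .c, .t].getD q .t

theorem RB_mem : ∀ w ∈ RB, (w.map fun i : Fin 6 => L8 i) ∈ rels := by decide

section hom

variable {K : Type*} [Group K] {g : Lt → K}

theorem sq_of (hr : ∀ w ∈ rels, (w.map g).prod = 1) (x : Lt) (hx : [x, x] ∈ rels) : g x * g x = 1 := by
  simpa using hr _ hx

theorem comm_of {a b : K} (ha : a * a = 1) (hb : b * b = 1) (h : a * (b * (a * b)) = 1) : a * b = b * a := by
  have h1 : (a * b) * (a * b) = 1 := by rw [← h]; simp only [mul_assoc]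
  have h2 : (b * a) * (a * b) = 1 := by
    calc (b * a) * (a * b) = b * (a * a) * b := by group
      _ = 1 := by rw [ha, mul_one, hb]
  exact (mul_right_cancel (h1.trans h2.symm))

theorem comm (hr : ∀ w ∈ rels, (w.map g).prod = 1) {x z : Lt} (hx : [x, x] ∈ rels) (hz : [z, z] ∈ rels)
    (h : [x, z, x, z] ∈ rels) : g x * g z = g z * g x :=
  comm_of (sq_of hr x hx) (sq_of hr z hz) (by simpa [mul_assoc] using hr _ h)

theorem exists_phi (hr : ∀ w ∈ rels, (w.map g).prod = 1) : ∃ φ : G12 →* K, ∀ i : Fin 6, φ (lt i) = g (L8 i) := by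
  apply MPres.exists_hom
  intro r h
  have h1 := hr _ (RB_mem r h)
  rwa [List.map_map] at h1

/-- the homomorphism defined on `M₁₂` -/
noncomputable def phi (hr : ∀ w ∈ rels, (w.map g).prod = 1) : G12 →* K := (exists_phi hr).choose

theorem phi_lt (hr : ∀ w ∈ rels, (w.map g).prod = 1) (i : Fin 6) : phi hr (lt i) = g (L8 i) :=
  (exists_phi hr).choose_spec i

theorem phi_el (hr : ∀ w ∈ rels, (w.map g).prod = 1) (w : List (Fin 6)) :
    phi hr (el w) = (w.map fun i : Fin 6 => g (L8 i)).prod := by
  unfold el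
  rw [map_list_prod, List.map_map]
  congr 1
  apply List.map_congr_left
  intro i _
  exact phi_lt hr i

theorem c_mul (hr : ∀ w ∈ rels, (w.map g).prod = 1) (i : Fin 6) :
    g .c * phi hr (lt i) = phi hr (el (im i)) * g .c := by
  have hcc := sq_of hr .c (by decide)
  have hyy := sq_of hr .y (by decide)
  have hpp := sq_of hr .p (by decide)
  have hqq := sq_of hr .q (by decide)
  have hrr := sq_of hr .r (by decide)
  have hss := sq_of hr .s (by decide)
  have hbb := sq_of hr .b (by decide)
  -- `c x c x y = 1` gives `c x = x y c`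
  have key : ∀ a : K, a * a = 1 → g .y * a = a * g .y → g .c * (a * (g .c * (a * g .y))) = 1 →
      g .c * a = a * g .y * g .c := by
    intro a ha hya h
    have h1 : g .c * a * g .c = (a * g .y)⁻¹ := by
      apply eq_inv_of_mul_eq_one_left
      rw [← h]; simp only [mul_assoc]
    have h2 : (a * g .y)⁻¹ = a * g .y := by
      rw [inv_eq_iff_mul_eq_one]
      calc a * g .y * (a * g .y) = a * (g .y * a) * g .y := by group
        _ = a * (a * g .y) * g .y := by rw [hya]
        _ = (a * a) * (g .y * g .y) := by group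
        _ = 1 := by rw [ha, hyy, one_mul]
    rw [h2] at h1
    rw [← h1, mul_assoc, hcc, mul_one]
  rw [phi_lt, phi_el]
  fin_cases i
  · show g .c * g .y = ([g Lt.y] : List K).prod * g .c
    rw [List.prod_singleton]
    exact comm hr (by decide) (by decide) (by decide)
  · show g .c * g .p = ([g Lt.p, g .y] : List K).prod * g .c
    rw [List.prod_cons, List.prod_singleton]
    exact key _ hpp (comm hr (by decide) (by decide) (by decide))
      (by simpa [mul_assoc] using hr [.c, .p, .c, .p, .y] (by decide))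
  · show g .c * g .q = ([g Lt.q, g .y] : List K).prod * g .c
    rw [List.prod_cons, List.prod_singleton]
    exact key _ hqq (comm hr (by decide) (by decide) (by decide))
      (by simpa [mul_assoc] using hr [.c, .q, .c, .q, .y] (by decide))
  · show g .c * g .r = ([g Lt.r, g .y] : List K).prod * g .c
    rw [List.prod_cons, List.prod_singleton]
    exact key _ hrr (comm hr (by decide) (by decide) (by decide))
      (by simpa [mul_assoc] using hr [.c, .r, .c, .r, .y] (by decide))
  · show g .c * g .s = ([g Lt.s, g .y] : List K).prod * g .c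
    rw [List.prod_cons, List.prod_singleton]
    exact key _ hss (comm hr (by decide) (by decide) (by decide))
      (by simpa [mul_assoc] using hr [.c, .s, .c, .s, .y] (by decide))
  · show g .c * g .b = ([g Lt.p, g .s, g .b, g .p, g .s] : List K).prod * g .c
    have h0 : g .c * (g .b * (g .c * (g .s * (g .p * (g .b * (g .s * g .p)))))) = 1 := by
      simpa [mul_assoc] using hr [.c, .b, .c, .s, .p, .b, .s, .p] (by decide)
    simp only [List.prod_cons, List.prod_nil, mul_one]
    have h1 : g .c * g .b * g .c = (g .s * (g .p * (g .b * (g .s * g .p))))⁻¹ := by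
      apply eq_inv_of_mul_eq_one_left
      rw [← h0]; simp only [mul_assoc]
    have h2 : (g .s * (g .p * (g .b * (g .s * g .p))))⁻¹ = g .p * (g .s * (g .b * (g .p * g .s))) := by
      rw [inv_eq_iff_mul_eq_one]
      calc g .s * (g .p * (g .b * (g .s * g .p))) * (g .p * (g .s * (g .b * (g .p * g .s))))
          = g .s * (g .p * (g .b * (g .s * ((g .p * g .p) * g .s) * g .b) * g .p) * g .s) := by group
        _ = 1 := by rw [hpp, one_mul, hss, one_mul, hbb, one_mul, hpp, one_mul, hss]
    rw [h2] at h1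
    rw [← h1, mul_assoc, hcc, mul_one]

theorem t_mul (hr : ∀ w ∈ rels, (w.map g).prod = 1) (i : Fin 6) :
    g .t * phi hr (lt i) = phi hr (lt i) * g .t := by
  rw [phi_lt]
  fin_cases i <;> exact comm hr (by decide) (by decide) (by decide)

/-- The homomorphism. -/
noncomputable def psiP (hr : ∀ w ∈ rels, (w.map g).prod = 1) : CC →* K :=
  psi (phi hr) (g .c) (g .t) (sq_of hr .c (by decide)) (sq_of hr .t (by decide)) (c_mul hr) (t_mul hr)
    (comm hr (by decide) (by decide) (by decide))

theorem psiP_ga (hr : ∀ w ∈ rels, (w.map g).prod = 1) (q : ℕ) (hq : q < 8) : psiP hr (ga q) = g (L8 q) := by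
  rcases (by omega : q < 6 ∨ q = 6 ∨ q = 7) with h | rfl | rfl
  · have h1 := phi_lt hr ⟨q, h⟩
    rw [ga_lt ⟨q, h⟩]
    exact (psi_inM _ _ _ _ _ _ _ _ _).trans h1
  · rw [ga_six]; exact psi_cc _ _ _ _ _ _ _ _
  · rw [ga_seven]; exact psi_tt _ _ _ _ _ _ _ _

/-- the element of a word -/
noncomputable def gw (w : List ℕ) : CC := (w.map ga).prod

/-- its full code -/
noncomputable def fw (w : List ℕ) : ℕ := w.foldr (fun q a => mulF (gaN q) a) Eng.idF

theorem fl_gw (w : List ℕ) (hw : ∀ q ∈ w, q < 8) : mod.fl (gw w) = fw w := by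
  induction w with
  | nil => exact mod.fone
  | cons q w ih =>
    have h1 : gw (q :: w) = ga q * gw w := by unfold gw; rw [List.map_cons, List.prod_cons]
    have h2 : fw (q :: w) = mulF (gaN q) (fw w) := rfl
    rw [h1, h2, ← fl_mul, fl_ga q (hw q List.mem_cons_self), ih fun q hq => hw q (List.mem_cons_of_mem _ hq)]

theorem psiP_gw (hr : ∀ w ∈ rels, (w.map g).prod = 1) (w : List ℕ) (hw : ∀ q ∈ w, q < 8) :
    psiP hr (gw w) = ((w.map L8).map g).prod := by
  induction w with
  | nil => exact map_one _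
  | cons q w ih =>
    have h1 : gw (q :: w) = ga q * gw w := by unfold gw; rw [List.map_cons, List.prod_cons]
    rw [h1, map_mul, psiP_ga hr q (hw q List.mem_cons_self), ih fun q hq => hw q (List.mem_cons_of_mem _ hq),
      List.map_cons, List.map_cons, List.prod_cons]

/-! ### conjugation by `d` -/

theorem Dd (hr : ∀ w ∈ rels, (w.map g).prod = 1) : g .D * g .d = 1 := by simpa using hr [.D, .d] (by decide)
theorem dD (hr : ∀ w ∈ rels, (w.map g).prod = 1) : g .d * g .D = 1 := by simpa using hr [.d, .D] (by decide)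
theorem D_eq (hr : ∀ w ∈ rels, (w.map g).prod = 1) : g .D = (g .d)⁻¹ := eq_inv_of_mul_eq_one_left (Dd hr)
theorem ddd (hr : ∀ w ∈ rels, (w.map g).prod = 1) : g .d * g .d * g .d = 1 := by
  simpa [mul_assoc] using hr [.d, .d, .d] (by decide)

theorem t_d (hr : ∀ w ∈ rels, (w.map g).prod = 1) : g .t * g .d = g .d * (g .t * g .c) := by
  have h : g .D * (g .t * (g .d * (g .c * g .t))) = 1 := by
    simpa [mul_assoc] using hr [.D, .t, .d, .c, .t] (by decide)
  have hc := sq_of hr .c (by decide)
  have ht := sq_of hr .t (by decide)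
  rw [D_eq hr] at h
  have h1 : g .t * (g .d * (g .c * g .t)) = g .d := (inv_mul_eq_one.mp h).symm
  calc g .t * g .d = g .t * g .d * (g .c * (g .t * g .t) * g .c) := by rw [ht, mul_one, hc, mul_one]
    _ = (g .t * (g .d * (g .c * g .t))) * (g .t * g .c) := by group
    _ = _ := by rw [h1]

theorem tc_d (hr : ∀ w ∈ rels, (w.map g).prod = 1) : (g .t * g .c) * g .d = g .d * (g .t * g .c * g .y) := by
  have h : g .D * (g .t * (g .c * (g .d * (g .y * (g .c * g .t))))) = 1 := by
    simpa [mul_assoc] using hr [.D, .t, .c, .d, .y, .c, .t] (by decide)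
  have hc := sq_of hr .c (by decide)
  have ht := sq_of hr .t (by decide)
  have hy := sq_of hr .y (by decide)
  rw [D_eq hr] at h
  have h1 : g .t * (g .c * (g .d * (g .y * (g .c * g .t)))) = g .d := (inv_mul_eq_one.mp h).symm
  calc (g .t * g .c) * g .d = g .t * g .c * g .d * (g .y * (g .c * (g .t * g .t) * g .c) * g .y) := by
        rw [ht, mul_one, hc, mul_one, hy, mul_one]
    _ = (g .t * (g .c * (g .d * (g .y * (g .c * g .t))))) * (g .t * g .c * g .y) := by group
    _ = _ := by rw [h1]

theorem c_d (hr : ∀ w ∈ rels, (w.map g).prod = 1) : g .c * g .d = g .d * g .y := by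
  have h1 := t_d hr
  have h2 := tc_d hr
  have hc := sq_of hr .c (by decide)
  have ht := sq_of hr .t (by decide)
  have htc : g .t * g .c = g .c * g .t := comm hr (by decide) (by decide) (by decide)
  -- `c = t (t c)`
  calc g .c * g .d = g .t * (g .t * g .c * g .d) := by
        rw [← mul_assoc, ← mul_assoc, ht, one_mul]
    _ = (g .t * g .d) * (g .t * g .c * g .y) := by rw [h2]; group
    _ = g .d * ((g .t * g .c) * (g .t * g .c) * g .y) := by rw [h1]; group
    _ = g .d * ((g .t * (g .c * g .t) * g .c) * g .y) := by group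
    _ = g .d * g .y := by
      rw [← htc, ← mul_assoc (g .t), ht, one_mul, hc, one_mul]

theorem y_d (hr : ∀ w ∈ rels, (w.map g).prod = 1) : g .y * g .d = g .d * (g .c * g .y) := by
  have h1 := t_d hr
  have h2 := tc_d hr
  have hc := sq_of hr .c (by decide)
  have ht := sq_of hr .t (by decide)
  have hy := sq_of hr .y (by decide)
  have hd := ddd hr
  have hcy : g .c * g .y = g .y * g .c := comm hr (by decide) (by decide) (by decide)
  have hty : g .t * g .y = g .y * g .t := comm hr (by decide) (by decide) (by decide)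
  have htc : g .t * g .c = g .c * g .t := comm hr (by decide) (by decide) (by decide)
  -- `t d d = d d t c y`
  have h3 : g .t * g .d * g .d = g .d * g .d * (g .t * g .c * g .y) := by
    rw [h1, mul_assoc, h2, ← mul_assoc]
  -- `t = d³ t = ...`: `(t c y) d = d t`
  have h4 : (g .t * g .c * g .y) * g .d = g .d * g .t := by
    have h5 : g .d * g .d * ((g .t * g .c * g .y) * g .d) = g .d * g .d * (g .d * g .t) := by
      calc g .d * g .d * ((g .t * g .c * g .y) * g .d) = (g .t * g .d * g .d) * g .d := by rw [h3]; group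
        _ = g .t * (g .d * g .d * g .d) := by group
        _ = (g .d * g .d * g .d) * g .t := by rw [hd, one_mul, mul_one]
        _ = _ := by group
    exact mul_left_cancel h5
  -- `y = (t c) (t c y)`
  calc g .y * g .d = (g .t * (g .c * g .t) * g .c) * g .y * g .d := by
        rw [← htc, ← mul_assoc (g .t), ht, one_mul, hc, one_mul]
    _ = (g .t * g .c) * ((g .t * g .c * g .y) * g .d) := by group
    _ = ((g .t * g .c) * g .d) * g .t := by rw [h4]; group
    _ = g .d * (g .t * g .c * g .y * g .t) := by rw [h2]; group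
    _ = g .d * (g .t * g .c * (g .t * g .y)) := by rw [mul_assoc (g .t * g .c), ← hty]
    _ = g .d * ((g .t * (g .c * g .t)) * g .y) := by group
    _ = g .d * (g .c * g .y) := by rw [← htc, ← mul_assoc (g .t), ht, one_mul]

theorem inv_d (hr : ∀ w ∈ rels, (w.map g).prod = 1) {x : Lt} (hx : [x, x] ∈ rels) (h : [x, .d, x, .d] ∈ rels) :
    g x * g .d = (g .d)⁻¹ * g x := by
  have h1 : g x * (g .d * (g x * g .d)) = 1 := by simpa [mul_assoc] using hr _ h
  have h2 := sq_of hr x hx
  rw [eq_inv_mul_iff_mul_eq, ← mul_one (g x * g .d)]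
  have h3 : g .d * (g x * g .d) = g x := by
    have := congrArg (g x * ·) h1
    simp only [mul_one] at this
    rwa [← mul_assoc, h2, one_mul] at this
  rw [mul_one, h3]

theorem two_d (hr : ∀ w ∈ rels, (w.map g).prod = 1) {x z : Lt} (hx : [x, x] ∈ rels) (h : [x, .d, x, .d] ∈ rels)
    (hz : [z, z] ∈ rels) (h' : [z, .d, z, .d] ∈ rels) : g x * g z * g .d = g .d * (g x * g z) := by
  have h1 := inv_d hr hx h
  have h2 := inv_d hr hz h'
  have h3 : g x * (g .d)⁻¹ = g .d * g x := by
    rw [mul_inv_eq_iff_eq_mul, mul_assoc, h1, mul_inv_cancel_left]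
  rw [mul_assoc, h2, ← mul_assoc, h3, mul_assoc]

/-- the relations between the generators of `B` and `d` -/
theorem conj0 (hr : ∀ w ∈ rels, (w.map g).prod = 1) : psiP hr (ga 7) * g .d = g .d * psiP hr (ga 7 * ga 6) := by
  rw [map_mul, psiP_ga hr 7 (by norm_num), psiP_ga hr 6 (by norm_num)]
  exact t_d hr
theorem conj1 (hr : ∀ w ∈ rels, (w.map g).prod = 1) : psiP hr (ga 6) * g .d = g .d * psiP hr (ga 0) := by
  rw [psiP_ga hr 0 (by norm_num), psiP_ga hr 6 (by norm_num)]
  exact c_d hr
theorem conj2 (hr : ∀ w ∈ rels, (w.map g).prod = 1) : psiP hr (ga 0) * g .d = g .d * psiP hr (ga 6 * ga 0) := by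
  rw [map_mul, psiP_ga hr 0 (by norm_num), psiP_ga hr 6 (by norm_num)]
  exact y_d hr
theorem conj3 (hr : ∀ w ∈ rels, (w.map g).prod = 1) :
    psiP hr (ga 1 * ga 2) * g .d = g .d * psiP hr (ga 1 * ga 2) := by
  rw [map_mul, psiP_ga hr 1 (by norm_num), psiP_ga hr 2 (by norm_num)]
  exact two_d hr (by decide) (by decide) (by decide) (by decide)
theorem conj4 (hr : ∀ w ∈ rels, (w.map g).prod = 1) :
    psiP hr (ga 2 * ga 3) * g .d = g .d * psiP hr (ga 2 * ga 3) := by
  rw [map_mul, psiP_ga hr 2 (by norm_num), psiP_ga hr 3 (by norm_num)]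
  exact two_d hr (by decide) (by decide) (by decide) (by decide)
theorem conj5 (hr : ∀ w ∈ rels, (w.map g).prod = 1) :
    psiP hr (ga 3 * ga 4) * g .d = g .d * psiP hr (ga 3 * ga 4) := by
  rw [map_mul, psiP_ga hr 3 (by norm_num), psiP_ga hr 4 (by norm_num)]
  exact two_d hr (by decide) (by decide) (by decide) (by decide)

/-- generation -/
theorem gen (hr : ∀ w ∈ rels, (w.map g).prod = 1) (hg : Subgroup.closure (Set.range g) = ⊤) :
    Subgroup.closure (Set.range (psiP hr) ∪ {g .d}) = ⊤ := by
  rw [eq_top_iff, ← hg, Subgroup.closure_le]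
  rintro _ ⟨x, rfl⟩
  have h8 : ∀ q < 8, g (L8 q) ∈ Subgroup.closure (Set.range (psiP hr) ∪ {g .d}) := by
    intro q hq
    rw [← psiP_ga hr q hq]
    exact Subgroup.subset_closure (Or.inl ⟨_, rfl⟩)
  have hd : g .d ∈ Subgroup.closure (Set.range (psiP hr) ∪ {g .d}) :=
    Subgroup.subset_closure (Or.inr rfl)
  cases x
  · exact h8 0 (by norm_num)
  · exact h8 1 (by norm_num)
  · exact h8 2 (by norm_num)
  · exact h8 3 (by norm_num)
  · exact h8 4 (by norm_num)
  · exact h8 5 (by norm_num)
  · exact h8 6 (by norm_num)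
  · exact h8 7 (by norm_num)
  · exact hd
  · rw [D_eq hr]; exact inv_mem hd

end hom

end Cfsg.Agent.CoThreeStd.DC2.Psi
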