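import Cfsg.Agent.CoThreeStd.DC2.MPres

/-!
# The outer automorphism `m ↦ c m c` of `M₁₂` and the group `(M₁₂ : 2) × 2`
-/

set_option autoImplicit false

namespace Cfsg.Agent.CoThreeStd.DC2.Alpha

open Cfsg.Agent.CoThreeStd.M12 Cfsg.Agent.CoThreeStd.DC2.MPres

/-- images of the letters under conjugation by `c` -/
def im (k : Fin 6) : List (Fin 6) := [[0], [1, 0], [2, 0], [3, 0], [4, 0], [1, 4, 5, 1, 4]].getD k []

theorem RB_im : ∀ w ∈ RB, wt (w.flatMap im) = oneT := by decide +kernel

theorem im_im : ∀ k : Fin 6, wt ((im k).flatMap im) = wt [k] := by decide +kernel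

theorem map_el (w : List (Fin 6)) : (w.map fun k => el (im k)).prod = el (w.flatMap im) := by
  induction w with
  | nil => rfl
  | cons k w ih => rw [List.map_cons, List.prod_cons, ih, List.flatMap_cons, el_append]

theorem exists_al : ∃ φ : G12 →* G12, ∀ i, φ (lt i) = el (im i) := by
  apply exists_hom
  intro r hr
  rw [map_el]
  exact Subtype.ext (((el_rep _).eq_one_iff).2 (RB_im r hr))

/-- the automorphism as a homomorphism -/
noncomputable def al : G12 →* G12 := exists_al.choose

theorem al_lt (i : Fin 6) : al (lt i) = el (im i) := exists_al.choose_spec i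

theorem al_el (w : List (Fin 6)) : al (el w) = el (w.flatMap im) := by
  rw [← map_el]
  unfold el
  rw [map_list_prod, List.map_map]
  congr 1
  apply List.map_congr_left
  intro i _
  exact al_lt i

theorem al_al (m : G12) : al (al m) = m := by
  have hm : m ∈ Subgroup.closure (Set.range lt) := by rw [closure_lt]; exact Subgroup.mem_top m
  induction hm using Subgroup.closure_induction with
  | mem x hx =>
    obtain ⟨i, rfl⟩ := hx
    rw [al_lt, al_el, ← el_single]
    exact el_eq (im_im i)
  | one => rw [map_one, map_one]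
  | mul x y _ _ hx hy => rw [map_mul, map_mul, hx, hy]
  | inv x _ hx => rw [map_inv, map_inv, hx]

/-- the automorphism -/
noncomputable def alE : MulAut G12 where
  toFun := al
  invFun := al
  left_inv := al_al
  right_inv := al_al
  map_mul' := map_mul al

theorem alE_apply (m : G12) : alE m = al m := rfl

theorem alE_mul : alE * alE = 1 := by
  ext1 m
  exact al_al m

/-- the bit of an element of order at most two -/
def bit (z : Multiplicative (ZMod 2)) : ℕ := (Multiplicative.toAdd z).val

theorem bit_add : ∀ z w : Multiplicative (ZMod 2), bit (z * w) = (bit z + bit w) % 2 := by decide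
theorem bit_one : bit 1 = 0 := rfl
theorem bit_inj : ∀ z w : Multiplicative (ZMod 2), bit z = bit w → z = w := by decide
theorem bit_xor : ∀ z w z' w' : Multiplicative (ZMod 2), Nat.xor (bit z + 2 * bit w) (bit z' + 2 * bit w') =
    bit (z * z') + 2 * bit (w * w') := by decide
theorem bits_inj : ∀ z w z' w' : Multiplicative (ZMod 2), bit z + 2 * bit w = bit z' + 2 * bit w' →
    z = z' ∧ w = w' := by decide
theorem bits_mod : ∀ z w : Multiplicative (ZMod 2), (bit z + 2 * bit w) % 2 = bit z := by decide

/-- the element of order two -/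
def tau : Multiplicative (ZMod 2) := Multiplicative.ofAdd 1
theorem bit_tau : bit tau = 1 := rfl
theorem tau_sq : tau * tau = 1 := by decide
theorem one_or_tau : ∀ z : Multiplicative (ZMod 2), z = 1 ∨ z = tau := by decide

/-- the homomorphism to a group given by an element whose square is trivial -/
def zp {H : Type*} [Group H] (c : H) (hc : c * c = 1) : Multiplicative (ZMod 2) →* H where
  toFun z := c ^ bit z
  map_one' := by rw [bit_one, pow_zero]
  map_mul' z w := by
    rw [bit_add, ← pow_add]
    have : c ^ 2 = 1 := by rw [pow_two, hc]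
    conv_rhs => rw [← Nat.mod_add_div (bit z + bit w) 2, pow_add, pow_mul, this, one_pow, mul_one]

theorem zp_apply {H : Type*} [Group H] (c : H) (hc : c * c = 1) (z : Multiplicative (ZMod 2)) :
    zp c hc z = c ^ bit z := rfl

/-- the action of `⟨c⟩` -/
noncomputable def th : Multiplicative (ZMod 2) →* MulAut G12 := zp alE alE_mul

theorem th_one_apply (m : G12) : th 1 m = m := by rw [map_one]; rfl
theorem th_tau_apply (m : G12) : th tau m = al m := by
  show (alE ^ bit tau) m = al m
  rw [bit_tau, pow_one]
  rfl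

theorem al_th (z : Multiplicative (ZMod 2)) (m : G12) : al (th z m) = th z (al m) := by
  rcases one_or_tau z with rfl | rfl
  · rw [th_one_apply, th_one_apply]
  · rw [th_tau_apply, th_tau_apply]

/-- the group `(M₁₂ : 2) × 2` -/
abbrev CC : Type := (G12 ⋊[th] Multiplicative (ZMod 2)) × Multiplicative (ZMod 2)

/-- elements of `M₁₂` -/
noncomputable def inM : G12 →* CC := (MonoidHom.inl _ _).comp SemidirectProduct.inl

/-- `c` -/
noncomputable def cc : CC := (SemidirectProduct.inr tau, 1)

/-- `t` -/
noncomputable def tt : CC := (1, tau)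

theorem mul_left (a b : CC) : (a * b).1.left = a.1.left * th a.1.right b.1.left := rfl
theorem mul_right (a b : CC) : (a * b).1.right = a.1.right * b.1.right := rfl
theorem mul_snd (a b : CC) : (a * b).2 = a.2 * b.2 := rfl

theorem card_CC : Nat.card CC = 380160 := by
  rw [Nat.card_prod, SemidirectProduct.card, Out.card_G12, Nat.card_eq_fintype_card]
  rfl

instance : Finite CC := Nat.finite_of_card_ne_zero (by rw [card_CC]; norm_num)

theorem eq_prod (a : CC) : a = inM a.1.left * cc ^ bit a.1.right * tt ^ bit a.2 := by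
  obtain ⟨⟨m, z⟩, w⟩ := a
  have h1 : (inM m : CC) = (⟨m, 1⟩, 1) := rfl
  show ((⟨m, z⟩, w) : CC) = inM m * cc ^ bit z * tt ^ bit w
  have h2 : cc ^ bit z = ((⟨1, z⟩, 1) : CC) := by
    rcases one_or_tau z with rfl | rfl
    · rw [bit_one, pow_zero]; rfl
    · rw [bit_tau, pow_one]; rfl
  have h3 : tt ^ bit w = ((1, w) : CC) := by
    rcases one_or_tau w with rfl | rfl
    · rw [bit_one, pow_zero]; rfl
    · rw [bit_tau, pow_one]; rfl
  rw [h1, h2, h3]
  refine Prod.ext (SemidirectProduct.ext ?_ ?_) ?_
  · show m = m * th 1 1 * _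
    rw [map_one]
    show m = m * 1 * (th (1 * z) 1)
    rw [map_one, mul_one, mul_one]
  · show z = 1 * z * 1
    rw [one_mul, mul_one]
  · show w = 1 * 1 * w
    rw [one_mul, one_mul]

/-- the letters `y p q r s b c t = 0 .. 7` -/
noncomputable def ga (q : ℕ) : CC := if h : q < 6 then inM (lt ⟨q, h⟩) else if q = 6 then cc else tt

theorem ga_lt (i : Fin 6) : ga i = inM (lt i) := by unfold ga; rw [dif_pos i.isLt]
theorem ga_six : ga 6 = cc := rfl
theorem ga_seven : ga 7 = tt := rfl

/-- the letters generate -/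
theorem closure_ga : Subgroup.closure (ga '' {q | q < 8}) = ⊤ := by
  rw [eq_top_iff]
  intro a _
  rw [eq_prod a]
  have h6 : cc ∈ Subgroup.closure (ga '' {q | q < 8}) :=
    Subgroup.subset_closure ⟨6, by show 6 < 8; norm_num, ga_six⟩
  have h7 : tt ∈ Subgroup.closure (ga '' {q | q < 8}) :=
    Subgroup.subset_closure ⟨7, by show 7 < 8; norm_num, ga_seven⟩
  refine mul_mem (mul_mem ?_ (pow_mem h6 _)) (pow_mem h7 _)
  have hm : a.1.left ∈ Subgroup.closure (Set.range lt) := by rw [closure_lt]; exact Subgroup.mem_top _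
  have h2 : inM a.1.left ∈ (Subgroup.closure (Set.range lt)).map inM := ⟨_, hm, rfl⟩
  rw [MonoidHom.map_closure] at h2
  refine Subgroup.closure_mono ?_ h2
  rintro _ ⟨_, ⟨i, rfl⟩, rfl⟩
  refine ⟨i, ?_, ga_lt i⟩
  show (i : ℕ) < 8
  omega

section psi

variable {H : Type*} [Group H]

/-- The homomorphism from `(M₁₂ : 2) × 2`. -/
noncomputable def psi (φ : G12 →* H) (c t : H) (hc : c * c = 1) (ht : t * t = 1)
    (hcm : ∀ i, c * φ (lt i) = φ (el (im i)) * c) (htm : ∀ i, t * φ (lt i) = φ (lt i) * t) (htc : t * c = c * t) :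
    CC →* H := by
  have h1 : ∀ m, c * φ m = φ (al m) * c := by
    intro m
    have hm : m ∈ Subgroup.closure (Set.range lt) := by rw [closure_lt]; exact Subgroup.mem_top m
    induction hm using Subgroup.closure_induction with
    | mem x hx =>
      obtain ⟨i, rfl⟩ := hx
      rw [al_lt]
      exact hcm i
    | one => rw [map_one, map_one, map_one, mul_one, one_mul]
    | mul x y _ _ hx hy => rw [map_mul, map_mul, map_mul, ← mul_assoc, hx, mul_assoc, hy, mul_assoc]
    | inv x _ hx =>
      rw [map_inv, map_inv, map_inv, eq_inv_mul_iff_mul_eq, ← mul_assoc, ← hx, mul_inv_cancel_right]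
  have h2 : ∀ m, t * φ m = φ m * t := by
    intro m
    have hm : m ∈ Subgroup.closure (Set.range lt) := by rw [closure_lt]; exact Subgroup.mem_top m
    induction hm using Subgroup.closure_induction with
    | mem x hx =>
      obtain ⟨i, rfl⟩ := hx
      exact htm i
    | one => rw [map_one, mul_one, one_mul]
    | mul x y _ _ hx hy => rw [map_mul, ← mul_assoc, hx, mul_assoc, hy, mul_assoc]
    | inv x _ hx =>
      rw [map_inv, eq_inv_mul_iff_mul_eq, ← mul_assoc, ← hx, mul_inv_cancel_right]
  refine MonoidHom.noncommCoprod (SemidirectProduct.lift φ (zp c hc) ?_) (zp t ht) ?_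
  · intro z
    ext1 m
    show φ (th z m) = c ^ bit z * φ m * (c ^ bit z)⁻¹
    rcases one_or_tau z with rfl | rfl
    · rw [th_one_apply, bit_one, pow_zero, one_mul, inv_one, mul_one]
    · rw [th_tau_apply, bit_tau, pow_one, h1, mul_inv_cancel_right]
  · intro a w
    obtain ⟨m, z⟩ := a
    show φ m * c ^ bit z * t ^ bit w = t ^ bit w * (φ m * c ^ bit z)
    have h3 : Commute t (φ m) := h2 m
    have h4 : Commute t c := htc
    exact (((h3.pow_left (bit w)).mul_right ((h4.pow_left (bit w)).pow_right (bit z)))).symm.eq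

variable (φ : G12 →* H) (c t : H) (hc : c * c = 1) (ht : t * t = 1)
    (hcm : ∀ i, c * φ (lt i) = φ (el (im i)) * c) (htm : ∀ i, t * φ (lt i) = φ (lt i) * t) (htc : t * c = c * t)

theorem psi_apply (a : CC) : psi φ c t hc ht hcm htm htc a = φ a.1.left * c ^ bit a.1.right * t ^ bit a.2 := rfl

theorem psi_inM (m : G12) : psi φ c t hc ht hcm htm htc (inM m) = φ m := by
  rw [psi_apply]
  show φ m * c ^ bit 1 * t ^ bit 1 = φ m
  rw [bit_one, pow_zero, pow_zero, mul_one, mul_one]

theorem psi_cc : psi φ c t hc ht hcm htm htc cc = c := by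
  rw [psi_apply]
  show φ 1 * c ^ bit tau * t ^ bit 1 = c
  rw [bit_one, bit_tau, pow_zero, pow_one, mul_one, map_one, one_mul]

theorem psi_tt : psi φ c t hc ht hcm htm htc tt = t := by
  rw [psi_apply]
  show φ 1 * c ^ bit 1 * t ^ bit tau = t
  rw [bit_one, bit_tau, pow_zero, pow_one, mul_one, map_one, one_mul]

end psi

end Cfsg.Agent.CoThreeStd.DC2.Alpha
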