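import Cfsg.Agent.Lib.PackMat

/-!
# Kernel engine for a double coset enumeration over `C = (M₁₂:2) × 2` (static tables with ranks)

FULL codes: `m₁ | m₂ << 48 | e << 96 | t << 97` (two permutations of twelve points, two bits); HALF codes:
`m₁ | e << 48 | t << 49`.  `mulH` multiplies a half code by a full code and gives a half code.
The rest is as in `DC/Eng.lean`.
-/

set_option autoImplicit false

namespace Cfsg.Agent.CoThreeStd.DC2.Eng

open Cfsg.Agent.Lib.PackMat

/-! ### kernel functions -/

/-- composition of twelve nibbles, with tail `z` -/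
noncomputable def comp (a b z : ℕ) : ℕ :=
  Nat.add (Nat.land (Nat.shiftRight a (Nat.land (Nat.shiftLeft b 2) 60)) 15) (Nat.mul 16 (
  Nat.add (Nat.land (Nat.shiftRight a (Nat.land (Nat.shiftRight b 2) 60)) 15) (Nat.mul 16 (
  Nat.add (Nat.land (Nat.shiftRight a (Nat.land (Nat.shiftRight b 6) 60)) 15) (Nat.mul 16 (
  Nat.add (Nat.land (Nat.shiftRight a (Nat.land (Nat.shiftRight b 10) 60)) 15) (Nat.mul 16 (
  Nat.add (Nat.land (Nat.shiftRight a (Nat.land (Nat.shiftRight b 14) 60)) 15) (Nat.mul 16 (
  Nat.add (Nat.land (Nat.shiftRight a (Nat.land (Nat.shiftRight b 18) 60)) 15) (Nat.mul 16 (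
  Nat.add (Nat.land (Nat.shiftRight a (Nat.land (Nat.shiftRight b 22) 60)) 15) (Nat.mul 16 (
  Nat.add (Nat.land (Nat.shiftRight a (Nat.land (Nat.shiftRight b 26) 60)) 15) (Nat.mul 16 (
  Nat.add (Nat.land (Nat.shiftRight a (Nat.land (Nat.shiftRight b 30) 60)) 15) (Nat.mul 16 (
  Nat.add (Nat.land (Nat.shiftRight a (Nat.land (Nat.shiftRight b 34) 60)) 15) (Nat.mul 16 (
  Nat.add (Nat.land (Nat.shiftRight a (Nat.land (Nat.shiftRight b 38) 60)) 15) (Nat.mul 16 (
  Nat.add (Nat.land (Nat.shiftRight a (Nat.land (Nat.shiftRight b 42) 60)) 15) (Nat.mul 16 (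
    z))))))))))))))))))))))))

/-- product of a half code and a full code -/
noncomputable def mulH (a b : ℕ) : ℕ :=
  force (Nat.land (Nat.shiftRight b (Nat.mul 48 (Nat.land (Nat.shiftRight a 48) 1))) 0xffffffffffff) fun b' =>
    comp a b' (Nat.xor (Nat.shiftRight a 48) (Nat.shiftRight b 96))

/-- the half code of `1` -/
def idN : ℕ := 0xba9876543210

/-- the full code of `1` -/
def idF : ℕ := 0xba9876543210ba9876543210

/-- binary tree of rows (row literal, number of slots) -/
inductive BT where
  | leaf (r n : ℕ) : BT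
  | node (l r : BT) : BT

/-- a signed move `g^{±1} w` (`sg = 0` : `g`) -/
structure Mv where
  /-- sign -/
  sg : ℕ
  /-- constant (full code) -/
  w : ℕ

/-- relator type `(g w₁) (g^{s₂} w₂) ⋯ (g^{sₙ} wₙ) = 1` -/
structure Ty where
  /-- the first constant -/
  w1 : ℕ
  /-- the other moves -/
  ws : List Mv

/-- the static tables -/
structure Tabs where
  /-- rows -/
  rows : BT
  /-- transversal, full codes, 128-bit slots -/
  R : ℕ
  /-- transversal, half codes, 64-bit slots -/
  RH : ℕ
  /-- elements of `B`, full codes, 128-bit slots -/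
  B : ℕ
  /-- their conjugates by `g` -/
  F : ℕ
  /-- relators -/
  W : List Ty
  /-- parents, 24-bit slots (`p * 4096 + q * 2 + dir`) -/
  P : ℕ

/-- 64-bit slot -/
noncomputable def at64 (X k : ℕ) : ℕ := Nat.land (Nat.shiftRight X (Nat.mul 64 k)) 0xffffffffffffffff

/-- 128-bit slot -/
noncomputable def at128 (X k : ℕ) : ℕ :=
  Nat.land (Nat.shiftRight X (Nat.mul 128 k)) 0xffffffffffffffffffffffffffffffff

/-- 80-bit slot -/
noncomputable def slot (r k : ℕ) : ℕ := Nat.land (Nat.shiftRight r (Nat.mul 80 k)) 0xffffffffffffffffffff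

/-- look up a row -/
noncomputable def look (t : BT) : ℕ → (ℕ → ℕ → Bool) → Bool :=
  BT.rec (motive := fun _ => ℕ → (ℕ → ℕ → Bool) → Bool)
    (fun r n i K => cond (Nat.beq i 0) (K r n) false)
    (fun _ _ ihl ihr i K => cond (Nat.beq (Nat.land i 1) 0) (ihl (Nat.shiftRight i 1) K)
      (ihr (Nat.shiftRight i 1) K)) t

/-- use the fact `(i, k)` of rank smaller than `q` -/
noncomputable def use (T : Tabs) (q i k : ℕ) (K : ℕ → ℕ → Bool) : Bool :=
  look T.rows i fun r n => cond (Nat.ble (Nat.add k 1) n)
    (force (slot r k) fun s => cond (Nat.ble (Nat.add (Nat.shiftRight s 57) 1) q)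
      (force (Nat.land (Nat.shiftRight s 50) 127) fun j =>
        force (Nat.land s 0x3ffffffffffff) fun d => K j d) false) false

/-- use an edge fact -/
noncomputable def useE (T : Tabs) (q i k : ℕ) (K : ℕ → ℕ → Bool) : Bool :=
  cond (Nat.ble k 791) (use T q i k K) false

/-- use a stabiliser fact -/
noncomputable def useS (T : Tabs) (q i l : ℕ) (K : ℕ → Bool) : Bool := use T q i (Nat.add 792 l) fun _ s => K s

/-- element of `B` and its conjugate (full codes) -/
noncomputable def bget (T : Tabs) (b : ℕ) (K : ℕ → ℕ → Bool) : Bool :=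
  cond (Nat.ble b 479) (force (at128 T.B b) fun β => force (at128 T.F b) fun φ => K β φ) false

/-- element of the transversal (full code) -/
noncomputable def rget (T : Tabs) (k : ℕ) (K : ℕ → Bool) : Bool :=
  cond (Nat.ble k 791) (force (at128 T.R k) K) false

/-- element of the transversal (half code) -/
noncomputable def hget (T : Tabs) (k : ℕ) (K : ℕ → Bool) : Bool :=
  cond (Nat.ble k 791) (force (at64 T.RH k) K) false

/-- element of `C` given by a pair (half code) -/
noncomputable def pget (T : Tabs) (k b : ℕ) (K : ℕ → Bool) : Bool :=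
  hget T k fun r => bget T b fun β _ => force (mulH r β) K

/-- the product of `s` with the element given by a pair -/
noncomputable def pmul (T : Tabs) (s k b : ℕ) (K : ℕ → Bool) : Bool :=
  rget T k fun r => bget T b fun β _ => force (mulH s r) fun e => force (mulH e β) K

/-- right multiplication by a constant -/
noncomputable def mulW (c w : ℕ) (K : ℕ → Bool) : Bool := cond (Nat.beq w idF) (K c) (force (mulH c w) K)

/-- the edge from `(i, c)`, where `c = r_k β_b` -/
noncomputable def edge (T : Tabs) (q i c k b : ℕ) (K : ℕ → ℕ → Bool) : Bool :=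
  hget T k fun r => bget T b fun β φ => cond (Nat.beq c (mulH r β))
    (cond (Nat.beq i 0) (force (mulH idN φ) fun d => K 1 d)
      (useE T q i k fun j d => force (mulH d φ) fun d' => K j d')) false

/-- the slot of an edge, also for row `0` -/
noncomputable def slotI (T : Tabs) (q i k : ℕ) (K : ℕ → ℕ → Bool) : Bool :=
  cond (Nat.beq i 0) (K 1 idN) (useE T q i k K)

/-- the step `g` -/
noncomputable def stepG (T : Tabs) (q s i c : ℕ) (K : ℕ → ℕ → ℕ → Bool) : Bool :=
  force (Nat.land s 1023) fun k => force (Nat.land (Nat.shiftRight s 10) 511) fun b => edge T q i c k b fun j d =>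
    force (Nat.shiftRight s 19) fun s => K s j d

/-- the step `g⁻¹` from `(j, c)` -/
noncomputable def stepI (T : Tabs) (q s j c : ℕ) (K : ℕ → ℕ → ℕ → Bool) : Bool :=
  force (Nat.land s 127) fun i => force (Nat.land (Nat.shiftRight s 7) 1023) fun k =>
  force (Nat.land (Nat.shiftRight s 17) 511) fun b => force (Nat.land (Nat.shiftRight s 26) 2047) fun l =>
  force (Nat.shiftRight s 37) fun s =>
  bget T b fun β φ => hget T k fun r => force (mulH r β) fun c' => slotI T q i k fun j' d' =>
  cond (Nat.beq j' j) (cond (Nat.beq j 0) (K s i c') (force (mulH d' φ) fun x =>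
    cond (Nat.beq l 0) (cond (Nat.beq x c) (K s i c') false)
      (force (Nat.land s 1023) fun kd => force (Nat.land (Nat.shiftRight s 10) 511) fun bd =>
        force (Nat.shiftRight s 19) fun s => pget T kd bd fun y => cond (Nat.beq x y)
          (useS T q j (Nat.sub l 1) fun u => pmul T u kd bd fun z => cond (Nat.beq z c) (K s i c') false) false)))
    false

/-- signed moves -/
noncomputable def walk (T : Tabs) (q : ℕ) (ws : List Mv) : ℕ → ℕ → ℕ → (ℕ → ℕ → ℕ → Bool) → Bool :=
  List.rec (motive := fun _ => ℕ → ℕ → ℕ → (ℕ → ℕ → ℕ → Bool) → Bool) (fun s i c K => K s i c)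
    (fun m _ ih s i c K => cond (Nat.beq m.sg 0)
      (stepG T q s i c fun s i c => mulW c m.w fun c => ih s i c K)
      (stepI T q s i c fun s i c => mulW c m.w fun c => ih s i c K)) ws

/-- relator type number `e` -/
noncomputable def tget (l : List Ty) : ℕ → (ℕ → List Mv → Bool) → Bool :=
  List.rec (motive := fun _ => ℕ → (ℕ → List Mv → Bool) → Bool) (fun _ _ => false)
    (fun a _ ih e K => Nat.rec (K a.w1 a.ws) (fun m _ => ih m K) e) l

/-- kind 0: a relator gives a new edge -/
noncomputable def kind0 (T : Tabs) (q i0 k0 j0 d0 s : ℕ) : Bool :=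
  force (Nat.land s 31) fun e => force (Nat.land (Nat.shiftRight s 5) 1023) fun kv =>
  force (Nat.land (Nat.shiftRight s 15) 511) fun bv => force (Nat.land (Nat.shiftRight s 24) 511) fun b2 =>
  force (Nat.shiftRight s 33) fun s =>
  tget T.W e fun w1 ws =>
  pget T kv bv fun c0 => bget T b2 fun β2 φ2 => cond (Nat.beq d0 (mulH c0 φ2))
    (mulW c0 w1 fun c => walk T q ws s j0 c fun _ i c => cond (Nat.beq i i0)
      (hget T k0 fun r => Nat.beq (mulH c β2) r) false) false

/-- kind 1: a relator gives a stabiliser element -/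
noncomputable def kind1 (T : Tabs) (q i0 d0 s : ℕ) : Bool :=
  force (Nat.land s 31) fun e => force (Nat.land (Nat.shiftRight s 5) 1023) fun ks =>
  force (Nat.land (Nat.shiftRight s 15) 511) fun bs => force (Nat.land (Nat.shiftRight s 24) 1023) fun kv =>
  force (Nat.land (Nat.shiftRight s 34) 511) fun bv => force (Nat.shiftRight s 43) fun s =>
  tget T.W e fun w1 ws =>
  pget T ks bs fun c1 => cond (Nat.beq d0 c1) (pget T kv bv fun c0 =>
    stepG T q s i0 c0 fun s i c => mulW c w1 fun c => walk T q ws s i c fun _ i c => cond (Nat.beq i i0)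
      (pmul T d0 kv bv fun e => Nat.beq e c) false) false

/-- kind 3: propagation by the stabiliser -/
noncomputable def kind3 (T : Tabs) (q i0 k0 j0 d0 s : ℕ) : Bool :=
  force (Nat.land s 1023) fun k => force (Nat.land (Nat.shiftRight s 10) 2047) fun l =>
  force (Nat.land (Nat.shiftRight s 21) 511) fun b =>
  rget T k fun r => useS T q i0 l fun c => force (mulH c r) fun e => bget T b fun β φ =>
  hget T k0 fun r0 => cond (Nat.beq (mulH e β) r0)
    (useE T q i0 k fun j d => cond (Nat.beq j0 j) (Nat.beq d0 (mulH d φ)) false) false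

/-- kind 4: product of stabiliser elements -/
noncomputable def kind4 (T : Tabs) (q i0 d0 s : ℕ) : Bool :=
  force (Nat.land s 2047) fun l => force (Nat.land (Nat.shiftRight s 11) 2047) fun l2 =>
  force (Nat.land (Nat.shiftRight s 22) 1023) fun k2 => force (Nat.land (Nat.shiftRight s 32) 511) fun b2 =>
  useS T q i0 l fun c => useS T q i0 l2 fun d => pget T k2 b2 fun d' => cond (Nat.beq d d')
    (pmul T c k2 b2 fun e => Nat.beq d0 e) false

/-- kind 5: transport of a stabiliser element along an edge -/
noncomputable def kind5 (T : Tabs) (q i0 d0 s : ℕ) : Bool :=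
  force (Nat.land s 1023) fun ks => force (Nat.land (Nat.shiftRight s 10) 511) fun bs =>
  force (Nat.land (Nat.shiftRight s 19) 127) fun i => force (Nat.land (Nat.shiftRight s 26) 1023) fun k =>
  force (Nat.land (Nat.shiftRight s 36) 1023) fun k2 => force (Nat.land (Nat.shiftRight s 46) 2047) fun l =>
  force (Nat.land (Nat.shiftRight s 57) 511) fun b => force (Nat.land (Nat.shiftRight s 66) 1023) fun kd =>
  force (Nat.land (Nat.shiftRight s 76) 511) fun bd =>
  pget T ks bs fun c1 => cond (Nat.beq d0 c1) (rget T k fun r => hget T k2 fun r2 => bget T b fun β φ =>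
    useS T q i l fun c => force (mulH c r) fun cr => cond (Nat.beq (mulH cr β) r2)
      (useE T q i k fun j d => useE T q i k2 fun j2 d2 =>
      cond (Nat.beq j i0) (cond (Nat.beq j2 i0) (pget T kd bd fun x => cond (Nat.beq x (mulH d φ))
        (pmul T d0 kd bd fun y => Nat.beq y d2) false) false) false) false) false

/-- kind 6: transport of a stabiliser element backwards along an edge -/
noncomputable def kind6 (T : Tabs) (q i0 d0 s : ℕ) : Bool :=
  force (Nat.land s 1023) fun ks => force (Nat.land (Nat.shiftRight s 10) 511) fun bs =>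
  force (Nat.land (Nat.shiftRight s 19) 127) fun j => force (Nat.land (Nat.shiftRight s 26) 1023) fun k =>
  force (Nat.land (Nat.shiftRight s 36) 1023) fun k2 => force (Nat.land (Nat.shiftRight s 46) 2047) fun l =>
  force (Nat.land (Nat.shiftRight s 57) 511) fun b => force (Nat.land (Nat.shiftRight s 66) 1023) fun kd =>
  force (Nat.land (Nat.shiftRight s 76) 511) fun bd =>
  pget T ks bs fun c1 => cond (Nat.beq d0 c1) (rget T k fun r => hget T k2 fun r2 => bget T b fun β φ =>
    force (mulH d0 r) fun dr => cond (Nat.beq (mulH dr β) r2)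
      (useE T q i0 k fun j1 d => useE T q i0 k2 fun j2 d2 =>
      cond (Nat.beq j1 j) (cond (Nat.beq j2 j) (cond (Nat.beq j 0) true
        (useS T q j l fun c => pget T kd bd fun x => cond (Nat.beq x (mulH d φ))
          (pmul T c kd bd fun y => Nat.beq y d2) false)) false) false) false) false

/-- the parent of `j` is `(p, q, dir)` -/
noncomputable def isPar (T : Tabs) (j p q e : ℕ) : Bool :=
  cond (Nat.ble (Nat.add p 1) j) (cond (Nat.ble q 791)
    (Nat.beq (Nat.land (Nat.shiftRight T.P (Nat.mul 24 j)) 0xffffff) (Nat.add (Nat.mul p 4096)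
      (Nat.add (Nat.mul q 2) e))) false) false

/-- kind 9: definition -/
noncomputable def kind9 (T : Tabs) (i0 k0 j0 d0 : ℕ) : Bool :=
  cond (Nat.beq d0 idN) (isPar T j0 i0 k0 0) false

/-- kind 10: definition with `g⁻¹` -/
noncomputable def kind10 (T : Tabs) (i0 k0 j0 d0 s : ℕ) : Bool :=
  cond (Nat.beq k0 0) (hget T s fun r => cond (Nat.beq d0 r) (isPar T i0 j0 s 1) false) false

/-- kind 7: stabiliser of the first row -/
noncomputable def kind7 (T : Tabs) (i0 d0 s : ℕ) : Bool :=
  cond (Nat.beq i0 1) (bget T s fun _ φ => Nat.beq d0 (mulH idN φ)) false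

/-- select by kind: edges -/
noncomputable def selE (e : ℕ) (a3 a0 a9 a10 : Bool) : Bool :=
  cond (Nat.beq e 3) a3 (cond (Nat.beq e 0) a0 (cond (Nat.beq e 9) a9 (cond (Nat.beq e 10) a10 false)))

/-- select by kind: stabilisers -/
noncomputable def selS (e : ℕ) (a4 a1 a5 a6 a7 a8 : Bool) : Bool :=
  cond (Nat.beq e 4) a4 (cond (Nat.beq e 1) a1 (cond (Nat.beq e 5) a5 (cond (Nat.beq e 6) a6
    (cond (Nat.beq e 7) a7 (cond (Nat.beq e 8) a8 false)))))

/-- the certificate number `s` proves the fact of slot `(i, k)`; `r` is the row literal of `i`; rows `≤ N` -/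
noncomputable def chk (T : Tabs) (N i k r s : ℕ) : Bool :=
  force (slot r k) fun z => force (Nat.shiftRight z 57) fun q => force (Nat.land (Nat.shiftRight z 50) 127) fun j =>
  force (Nat.land z 0x3ffffffffffff) fun d => force (Nat.land s 15) fun e => force (Nat.shiftRight s 4) fun s =>
  cond (Nat.ble k 791)
    (cond (Nat.ble j N) (selE e (kind3 T q i k j d s) (kind0 T q i k j d s) (kind9 T i k j d)
      (kind10 T i k j d s)) false)
    (selS e (kind4 T q i d s) (kind1 T q i d s) (kind5 T q i d s) (kind6 T q i d s) (kind7 T i d s)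
      (Nat.beq d idN))

/-- a row, from slot `k` on -/
noncomputable def chkRow (T : Tabs) (N i r : ℕ) (l : List ℕ) : ℕ → Bool :=
  List.rec (motive := fun _ => ℕ → Bool) (fun _ => true) (fun s _ ih k => cond (chk T N i k r s)
    (force (Nat.add k 1) ih) false) l

/-- a row -/
noncomputable def rowOK (T : Tabs) (N i : ℕ) (l : List ℕ) : Bool :=
  look T.rows i fun r n => cond (Nat.beq l.length n) (cond (Nat.ble 792 n) (chkRow T N i r l 0) false) false

end Cfsg.Agent.CoThreeStd.DC2.Eng
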