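import Cfsg.Agent.CoThreeStd.Bound.M12Pres
import Cfsg.Agent.CoThreeStd.DC2.MbAll
import Cfsg.Agent.CoThreeStd.M12.Out

/-!
# A presentation of the Mathieu group of degree twelve in the letters `y p q r s b`
-/

set_option autoImplicit false

namespace Cfsg.Agent.CoThreeStd.DC2.MPres

open Cfsg.Agent.CoThreeStd.M12 Cfsg.Agent.CoThreeStd.Bound
open Cfsg.Agent.SporadicRecognition.CosetCert Cfsg.Agent.SporadicRecognition.CosetCertHyp

/-- The relators in `y p q r s b = 0 .. 5`. -/
def RB : List (List (Fin 6)) :=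
  [[0, 0], [1, 1], [2, 2], [3, 3], [4, 4], [5, 5],
    [1, 3, 1, 3], [1, 4, 1, 4], [2, 4, 2, 4], [0, 1, 0, 1], [0, 2, 0, 2], [0, 3, 0, 3], [0, 4, 0, 4],
    [1, 2, 1, 2, 1, 2], [2, 3, 2, 3, 2, 3], [3, 4, 3, 4, 3, 4], [5, 2, 5, 2, 5, 2], [5, 3, 5, 3, 5, 3],
    [5, 1, 2, 5, 1, 2, 5, 1, 2], [5, 3, 4, 5, 3, 4, 5, 3, 4], [5, 1, 3, 5, 2, 4, 5, 1, 3, 5, 4, 2],
    [5, 1, 4, 0, 5, 4, 1, 0, 5, 0, 1, 4], [5, 1, 0, 5, 2, 0, 5, 1, 0, 5, 0, 2]]

theorem RB_true : ∀ w ∈ RB, wt w = oneT := by decide +kernel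

theorem RB_one {w : List (Fin 6)} (hw : w ∈ RB) : (w.map lt).prod = 1 :=
  Subtype.ext (((el_rep w).eq_one_iff).2 (RB_true w hw))

section bound

variable {G : Type*} [Group G] (g : Fin 6 → G)

theorem ev_of_mem {m : ℕ} {R : List (List ℕ)} (hR : ∀ r ∈ RB, (r.map g).prod = 1)
    (hsub : R.all (fun r => RB.any (fun s => s.map Fin.val == r) && r.all (fun i => Nat.blt i m)) = true) :
    ∀ r ∈ R, ev (gn g m) r = 1 := by
  intro r hr
  have h := List.all_eq_true.1 hsub r hr
  rw [Bool.and_eq_true, List.any_eq_true, List.all_eq_true] at h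
  obtain ⟨⟨s, hs, hsr⟩, h2⟩ := h
  rw [beq_iff_eq] at hsr
  subst hsr
  rw [← hR s hs]
  unfold ev
  rw [List.map_map]
  congr 1
  apply List.map_congr_left
  intro i hi
  have h3 := h2 i.val (List.mem_map_of_mem hi)
  rw [Nat.blt_eq] at h3
  show gn g m i.val = g i
  unfold gn
  rw [dif_pos i.isLt, if_pos h3]

theorem gn_inv (m : ℕ) (hR : ∀ r ∈ RB, (r.map g).prod = 1) (n : ℕ) : gn g m n * gn g m n = 1 := by
  have hsq : ∀ i : Fin 6, g i * g i = 1 := by
    intro i
    have h := hR [i, i] (by revert i; decide)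
    rwa [List.map_cons, List.map_cons, List.map_nil, List.prod_cons, List.prod_cons, List.prod_nil,
      mul_one] at h
  unfold gn
  split_ifs with h1 h2
  · exact hsq _
  · exact one_mul 1
  · exact one_mul 1

theorem card_small (hR : ∀ r ∈ RB, (r.map g).prod = 1) :
    Finite (Subgroup.closure (gn g 5 '' {n | n < 5})) ∧
      Nat.card (Subgroup.closure (gn g 5 '' {n | n < 5})) ≤ 240 := by
  have hz : Finite (Subgroup.zpowers (gn g 5 0)) ∧ Nat.card (Subgroup.zpowers (gn g 5 0)) ≤ 2 := by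
    have h1 : orderOf (gn g 5 0) ∣ 2 := orderOf_dvd_of_pow_eq_one (by rw [pow_two]; exact gn_inv g 5 hR 0)
    have h2 : orderOf (gn g 5 0) ≤ 2 := Nat.le_of_dvd (by norm_num) h1
    have h3 : 0 < orderOf (gn g 5 0) := Nat.pos_of_dvd_of_pos h1 (by norm_num)
    rw [← Nat.card_zpowers] at h2 h3
    exact ⟨(Nat.card_pos_iff.1 h3).2, h2⟩
  have hyp : Hyp M12CosBData.C (Subgroup.zpowers (gn g 5 0)) (gn g 5) := by
    refine hyp_of_checks _ _ M12CosBData.C M12CosBData.rels M12CosBData.subw rfl ?_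
      (ev_of_mem g hR (by decide +kernel)) ?_ (by decide +kernel)
    · intro n hn
      exact ⟨hn, gn_inv g 5 hR n⟩
    · intro s hs
      simp only [M12CosBData.subw, List.mem_cons, List.not_mem_nil, or_false] at hs
      subst hs
      simp only [ev, List.map_cons, List.map_nil, List.prod_cons, List.prod_nil, mul_one]
      exact Subgroup.mem_zpowers _
  have := hz.1
  obtain ⟨h1, h2⟩ := card_closure_le M12CosBData.C _ _ hyp M12CosBAll.part
  refine ⟨h1, h2.trans ?_⟩
  calc 120 * Nat.card (Subgroup.zpowers (gn g 5 0)) ≤ 120 * 2 := Nat.mul_le_mul_left _ hz.2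
    _ = 240 := by norm_num

/-- **Six elements satisfying the relators generate a group with at most `95040` elements.** -/
theorem card_le (hR : ∀ r ∈ RB, (r.map g).prod = 1) :
    Finite (Subgroup.closure (Set.range g)) ∧ Nat.card (Subgroup.closure (Set.range g)) ≤ 95040 := by
  obtain ⟨h1, h2⟩ := card_small g hR
  have hyp : Hyp MbData.C (Subgroup.closure (gn g 5 '' {n | n < 5})) (gn g 6) := by
    refine hyp_of_checks _ _ MbData.C MbData.rels MbData.subw rfl ?_
      (ev_of_mem g hR (by decide +kernel)) ?_ (by decide +kernel)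
    · intro n hn
      exact ⟨hn, gn_inv g 6 hR n⟩
    · have key : ∀ n, n < 5 → ev (gn g 6) [n] ∈ Subgroup.closure (gn g 5 '' {n | n < 5}) := by
        intro n hn
        have e : ev (gn g 6) [n] = gn g 5 n := by
          simp only [ev, List.map_cons, List.map_nil, List.prod_cons, List.prod_nil, mul_one]
          unfold gn
          rw [dif_pos (by omega), dif_pos (by omega), if_pos (by omega), if_pos (by omega)]
        rw [e]
        exact Subgroup.subset_closure ⟨n, hn, rfl⟩
      intro s hs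
      simp only [MbData.subw, List.mem_cons, List.not_mem_nil, or_false] at hs
      rcases hs with rfl | rfl | rfl | rfl | rfl <;> exact key _ (by norm_num)
  obtain ⟨h3, h4⟩ := SporadicRecognition.CosetCert.card_closure_le MbData.C _ _ hyp MbAll.part
  have e : Subgroup.closure (gn g 6 '' {x | x < MbData.C.k}) = Subgroup.closure (Set.range g) :=
    closure_gn g
  rw [e] at h3 h4
  refine ⟨h3, h4.trans ?_⟩
  calc 396 * Nat.card (Subgroup.closure (gn g 5 '' {n | n < 5})) ≤ 396 * 240 := Nat.mul_le_mul_left _ h2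
    _ = 95040 := by norm_num

end bound

theorem closure_lt : Subgroup.closure (Set.range lt) = ⊤ := by
  have h := Subgroup.closure_closure_coe_preimage (k := Set.range lp)
  have e : ((↑) : Subgroup.closure (Set.range lp) → P12) ⁻¹' Set.range lp = Set.range lt := by
    ext x
    constructor
    · rintro ⟨i, hi⟩
      exact ⟨i, Subtype.ext hi⟩
    · rintro ⟨i, rfl⟩
      exact ⟨i, rfl⟩
  rw [e] at h
  exact h

/-- **The presentation of `M₁₂`** in the letters `y p q r s b`. -/
theorem exists_hom {H : Type*} [Group H] (h : Fin 6 → H) (hR : ∀ r ∈ RB, (r.map h).prod = 1) :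
    ∃ φ : G12 →* H, ∀ i, φ (lt i) = h i := by
  have hR2 : ∀ r ∈ RB, (r.map fun i => (lt i, h i)).prod = 1 := by
    intro r hr
    rw [map_prod_pair, hR r hr, RB_one hr]
    rfl
  obtain ⟨h1, h2⟩ := card_le (fun i => (lt i, h i)) hR2
  exact hom_of_card lt h closure_lt h1 (by rw [Out.card_G12]; exact h2)

end Cfsg.Agent.CoThreeStd.DC2.MPres
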