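import Cfsg.Agent.CoThreeStd.DC2.Sound
import Cfsg.Agent.CoThreeStd.DC2.Alpha
import Cfsg.Agent.CoThreeStd.DC.Model

/-!
# The coding of `(M₁₂ : 2) × 2`
-/

set_option autoImplicit false

namespace Cfsg.Agent.CoThreeStd.DC2.Model

open Cfsg.Agent.Lib.PackMat (force force_eq)
open Cfsg.Agent.CoThreeStd.DC2.Eng Cfsg.Agent.CoThreeStd.DC2.Sound
  Cfsg.Agent.CoThreeStd.DC2.Alpha Cfsg.Agent.CoThreeStd.M12
open Cfsg.Agent.CoThreeStd.DC.Model (sl0 slk sr dg_add top_add tab tab_rep tab_mul)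

/-- `comp` in terms of digits -/
theorem comp_eq (a b z : ℕ) : comp a b z = pk (dg a (dg b 0)) (dg a (dg b 1)) (dg a (dg b 2)) (dg a (dg b 3))
    (dg a (dg b 4)) (dg a (dg b 5)) (dg a (dg b 6)) (dg a (dg b 7)) (dg a (dg b 8)) (dg a (dg b 9))
    (dg a (dg b 10)) (dg a (dg b 11)) + 16 ^ 12 * z := by
  have k0 : Nat.land (Nat.shiftRight b 2) 60 = 4 * dg b 1 := slk b 0
  have k1 : Nat.land (Nat.shiftRight b 6) 60 = 4 * dg b 2 := slk b 1
  have k2 : Nat.land (Nat.shiftRight b 10) 60 = 4 * dg b 3 := slk b 2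
  have k3 : Nat.land (Nat.shiftRight b 14) 60 = 4 * dg b 4 := slk b 3
  have k4 : Nat.land (Nat.shiftRight b 18) 60 = 4 * dg b 5 := slk b 4
  have k5 : Nat.land (Nat.shiftRight b 22) 60 = 4 * dg b 6 := slk b 5
  have k6 : Nat.land (Nat.shiftRight b 26) 60 = 4 * dg b 7 := slk b 6
  have k7 : Nat.land (Nat.shiftRight b 30) 60 = 4 * dg b 8 := slk b 7
  have k8 : Nat.land (Nat.shiftRight b 34) 60 = 4 * dg b 9 := slk b 8
  have k9 : Nat.land (Nat.shiftRight b 38) 60 = 4 * dg b 10 := slk b 9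
  have k10 : Nat.land (Nat.shiftRight b 42) 60 = 4 * dg b 11 := slk b 10
  unfold comp
  rw [sl0, k0, k1, k2, k3, k4, k5, k6, k7, k8, k9, k10]
  simp only [sr]
  generalize dg a (dg b 0) = x0
  generalize dg a (dg b 1) = x1
  generalize dg a (dg b 2) = x2
  generalize dg a (dg b 3) = x3
  generalize dg a (dg b 4) = x4
  generalize dg a (dg b 5) = x5
  generalize dg a (dg b 6) = x6
  generalize dg a (dg b 7) = x7
  generalize dg a (dg b 8) = x8
  generalize dg a (dg b 9) = x9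
  generalize dg a (dg b 10) = x10
  generalize dg a (dg b 11) = x11
  simp only [Nat.add_eq, Nat.mul_eq]
  unfold pk
  ring

theorem land48 (n : ℕ) : Nat.land n 0xffffffffffff = n % 16 ^ 12 := by
  rw [show (16 : ℕ) ^ 12 = 2 ^ 48 by norm_num]
  exact Nat.and_two_pow_sub_one_eq_mod n 48

theorem land1 (n : ℕ) : Nat.land n 1 = n % 2 := Nat.and_two_pow_sub_one_eq_mod n 1

/-- product of codes, first digits -/
theorem comp_rep {y : P12} {s t u z : ℕ} (hy : Rep y t) :
    comp (s + 16 ^ 12 * u) t z = mulT s t + 16 ^ 12 * z := by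
  rw [comp_eq]
  have hl : ∀ i : ℕ, (hi : i < 12) → dg (s + 16 ^ 12 * u) (dg t i) = dg s (dg t i) := by
    intro i hi
    rw [dg_add s u]
    rw [hy.dg ⟨i, hi⟩]
    exact (y ⟨i, hi⟩).2
  rw [hl 0 (by norm_num), hl 1 (by norm_num), hl 2 (by norm_num), hl 3 (by norm_num), hl 4 (by norm_num),
    hl 5 (by norm_num), hl 6 (by norm_num), hl 7 (by norm_num), hl 8 (by norm_num), hl 9 (by norm_num),
    hl 10 (by norm_num), hl 11 (by norm_num)]
  rfl

theorem shr (a n : ℕ) : Nat.shiftRight a n = a / 2 ^ n := Nat.shiftRight_eq_div_pow a n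

/-- product of codes -/
theorem mulH_rep {x y y' : P12} {s t t' u v : ℕ} (hx : Rep x s) (hy : Rep y t) (hy' : Rep y' t') :
    mulH (s + 16 ^ 12 * u) (t + 16 ^ 12 * t' + 16 ^ 24 * v) =
      mulT s (if u % 2 = 0 then t else t') + 16 ^ 12 * Nat.xor u v := by
  have h1 : Nat.shiftRight (s + 16 ^ 12 * u) 48 = u := top_add hx.lt
  have h2 : Nat.shiftRight (t + 16 ^ 12 * t' + 16 ^ 24 * v) 96 = v := by
    rw [shr]
    have hl : t + 16 ^ 12 * t' < 16 ^ 24 := by
      have h3 := hy.lt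
      have h4 := hy'.lt
      have : (16 : ℕ) ^ 24 = 16 ^ 12 * 16 ^ 12 := by rw [← pow_add]
      rw [this]
      calc t + 16 ^ 12 * t' < 16 ^ 12 + 16 ^ 12 * t' := by omega
        _ = 16 ^ 12 * (t' + 1) := by ring
        _ ≤ 16 ^ 12 * 16 ^ 12 := Nat.mul_le_mul_left _ h4
    rw [show (2 : ℕ) ^ 96 = 16 ^ 24 by norm_num, Nat.add_mul_div_left _ _ (by positivity),
      Nat.div_eq_of_lt hl, zero_add]
  unfold mulH
  rw [force_eq, h1, h2, land48, land1, shr]
  rcases Nat.mod_two_eq_zero_or_one u with hu | hu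
  · rw [hu, if_pos rfl]
    have h3 : (t + 16 ^ 12 * t' + 16 ^ 24 * v) / 2 ^ Nat.mul 48 0 % 16 ^ 12 = t := by
      show (t + 16 ^ 12 * t' + 16 ^ 24 * v) / 2 ^ 0 % 16 ^ 12 = t
      rw [pow_zero, Nat.div_one, show t + 16 ^ 12 * t' + 16 ^ 24 * v = t + 16 ^ 12 * (t' + 16 ^ 12 * v) by ring,
        Nat.add_mul_mod_self_left, Nat.mod_eq_of_lt hy.lt]
    rw [h3]
    exact comp_rep hy
  · rw [hu, if_neg one_ne_zero]
    have h3 : (t + 16 ^ 12 * t' + 16 ^ 24 * v) / 2 ^ Nat.mul 48 1 % 16 ^ 12 = t' := by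
      show (t + 16 ^ 12 * t' + 16 ^ 24 * v) / 2 ^ 48 % 16 ^ 12 = t'
      rw [show (2 : ℕ) ^ 48 = 16 ^ 12 by norm_num,
        show t + 16 ^ 12 * t' + 16 ^ 24 * v = t + 16 ^ 12 * (t' + 16 ^ 12 * v) by ring,
        Nat.add_mul_div_left _ _ (by positivity), Nat.div_eq_of_lt hy.lt, zero_add, Nat.add_mul_mod_self_left,
        Nat.mod_eq_of_lt hy'.lt]
    rw [h3]
    exact comp_rep hy'

/-- the half code -/
noncomputable def hcode (a : CC) : ℕ := tab (a.1.left : P12) + 16 ^ 12 * (bit a.1.right + 2 * bit a.2)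

/-- the full code -/
noncomputable def fcode (a : CC) : ℕ :=
  tab (a.1.left : P12) + 16 ^ 12 * tab (al a.1.left : P12) + 16 ^ 24 * (bit a.1.right + 2 * bit a.2)

theorem th_ite (z : Multiplicative (ZMod 2)) (m : G12) : tab ((th z m : G12) : P12) =
    if bit z = 0 then tab (m : P12) else tab (al m : P12) := by
  rcases one_or_tau z with rfl | rfl
  · rw [th_one_apply, bit_one, if_pos rfl]
  · rw [th_tau_apply, bit_tau, if_neg one_ne_zero]

theorem tab_one : tab (1 : P12) = oneT := ((tab_rep 1).eq_iff Rep.one).1 rfl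

attribute [local irreducible] mulH tab mulT al

/-- the coding -/
noncomputable def mod : Sound.Mod CC where
  cd := hcode
  fl := fcode
  inj := by
    intro a b h
    obtain ⟨⟨m, z⟩, w⟩ := a
    obtain ⟨⟨m', z'⟩, w'⟩ := b
    have h1 : tab (m : P12) + 16 ^ 12 * (bit z + 2 * bit w) = tab (m' : P12) + 16 ^ 12 * (bit z' + 2 * bit w') := h
    have ha := (tab_rep (m : P12)).lt
    have hb := (tab_rep (m' : P12)).lt
    have h2 : tab (m : P12) = tab (m' : P12) := by
      have := congrArg (· % 16 ^ 12) h1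
      simp only [Nat.add_mul_mod_self_left] at this
      rwa [Nat.mod_eq_of_lt ha, Nat.mod_eq_of_lt hb] at this
    have h3 : bit z + 2 * bit w = bit z' + 2 * bit w' := by
      rw [h2] at h1
      have := Nat.add_left_cancel h1
      exact Nat.eq_of_mul_eq_mul_left (by positivity) this
    have h4 : (m : P12) = m' := ((tab_rep _).eq_iff (tab_rep _)).2 h2
    obtain ⟨h5, h6⟩ := bits_inj _ _ _ _ h3
    rw [Subtype.ext h4, h5, h6]
  mul := by
    intro a b
    unfold hcode fcode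
    rw [mulH_rep (tab_rep (a.1.left : P12)) (tab_rep (b.1.left : P12)) (tab_rep (al b.1.left : P12)), bits_mod,
      bit_xor, mul_left, mul_right, mul_snd, Subgroup.coe_mul, ← tab_mul, th_ite]
  one := by
    show tab ((1 : G12) : P12) + 16 ^ 12 * (bit 1 + 2 * bit 1) = idN
    rw [show ((1 : G12) : P12) = 1 from rfl, tab_one]
    rfl
  fone := by
    show tab ((1 : G12) : P12) + 16 ^ 12 * tab ((al 1 : G12) : P12) + 16 ^ 24 * (bit 1 + 2 * bit 1) = idF
    rw [map_one, show ((1 : G12) : P12) = 1 from rfl, tab_one]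
    rfl

/-! ### full products -/

/-- exchange the two tables of a full code -/
noncomputable def swp (b : ℕ) : ℕ :=
  Nat.add (Nat.land (Nat.shiftRight b 48) 0xffffffffffff)
    (Nat.mul (16 ^ 12) (Nat.add (Nat.land b 0xffffffffffff) (Nat.mul (16 ^ 12) (Nat.shiftRight b 96))))

/-- the half code -/
noncomputable def hlf (b : ℕ) : ℕ := Nat.add (Nat.land b 0xffffffffffff) (Nat.mul (16 ^ 12) (Nat.shiftRight b 96))

theorem hlf_swp_eq {x y : P12} {t t' v : ℕ} (hy : Rep x t) (hy' : Rep y t') :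
    hlf (t + 16 ^ 12 * t' + 16 ^ 24 * v) = t + 16 ^ 12 * v ∧
    swp (t + 16 ^ 12 * t' + 16 ^ 24 * v) = t' + 16 ^ 12 * t + 16 ^ 24 * v := by
  have h2 : Nat.shiftRight (t + 16 ^ 12 * t' + 16 ^ 24 * v) 96 = v := by
    rw [shr]
    have hl : t + 16 ^ 12 * t' < 16 ^ 24 := by
      have h3 := hy.lt
      have h4 := hy'.lt
      have : (16 : ℕ) ^ 24 = 16 ^ 12 * 16 ^ 12 := by rw [← pow_add]
      rw [this]
      calc t + 16 ^ 12 * t' < 16 ^ 12 + 16 ^ 12 * t' := by omega
        _ = 16 ^ 12 * (t' + 1) := by ring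
        _ ≤ 16 ^ 12 * 16 ^ 12 := Nat.mul_le_mul_left _ h4
    rw [show (2 : ℕ) ^ 96 = 16 ^ 24 by norm_num, Nat.add_mul_div_left _ _ (by positivity),
      Nat.div_eq_of_lt hl, zero_add]
  have h3 : Nat.land (t + 16 ^ 12 * t' + 16 ^ 24 * v) 0xffffffffffff = t := by
    rw [land48, show t + 16 ^ 12 * t' + 16 ^ 24 * v = t + 16 ^ 12 * (t' + 16 ^ 12 * v) by ring,
        Nat.add_mul_mod_self_left, Nat.mod_eq_of_lt hy.lt]
  have h4 : Nat.land (Nat.shiftRight (t + 16 ^ 12 * t' + 16 ^ 24 * v) 48) 0xffffffffffff = t' := by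
    rw [land48, shr, show (2 : ℕ) ^ 48 = 16 ^ 12 by norm_num,
        show t + 16 ^ 12 * t' + 16 ^ 24 * v = t + 16 ^ 12 * (t' + 16 ^ 12 * v) by ring,
        Nat.add_mul_div_left _ _ (by positivity), Nat.div_eq_of_lt hy.lt, zero_add, Nat.add_mul_mod_self_left,
        Nat.mod_eq_of_lt hy'.lt]
  constructor
  · unfold hlf
    rw [h2, h3]
    rfl
  · unfold swp
    rw [h2, h3, h4]
    show t' + 16 ^ 12 * (t + 16 ^ 12 * v) = _
    ring

/-- product of full codes -/
noncomputable def mulF (a b : ℕ) : ℕ :=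
  force (mulH (hlf a) b) fun x => force (mulH (hlf (swp a)) (swp b)) fun y =>
    Nat.add (Nat.land x 0xffffffffffff) (Nat.mul (16 ^ 12) (Nat.add (Nat.land y 0xffffffffffff)
      (Nat.mul (16 ^ 12) (Nat.shiftRight x 48))))

theorem hlf_fcode (a : CC) : hlf (fcode a) = hcode a := by
  unfold hcode fcode
  exact (hlf_swp_eq (tab_rep _) (tab_rep _)).1

theorem swp_fcode (a : CC) : swp (fcode a) =
    tab (al a.1.left : P12) + 16 ^ 12 * tab (a.1.left : P12) + 16 ^ 24 * (bit a.1.right + 2 * bit a.2) := by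
  unfold fcode
  exact (hlf_swp_eq (tab_rep _) (tab_rep _)).2

theorem fl_mul (a b : CC) : mulF (mod.fl a) (mod.fl b) = mod.fl (a * b) := by
  show mulF (fcode a) (fcode b) = fcode (a * b)
  unfold mulF
  simp only [force_eq]
  have h1 : mulH (hlf (fcode a)) (fcode b) = hcode (a * b) := by
    rw [hlf_fcode]
    exact mod.mul a b
  have h2 : mulH (hlf (swp (fcode a))) (swp (fcode b)) =
      tab (al (a * b).1.left : P12) + 16 ^ 12 * (bit (a * b).1.right + 2 * bit (a * b).2) := by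
    rw [swp_fcode, swp_fcode, (hlf_swp_eq (tab_rep _) (tab_rep _)).1,
      mulH_rep (tab_rep _) (tab_rep (al b.1.left : P12)) (tab_rep (b.1.left : P12)), bits_mod,
      bit_xor, mul_left, mul_right, mul_snd, map_mul, Subgroup.coe_mul, ← tab_mul, al_th, th_ite, al_al]
  rw [h1, h2]
  have h3 : ∀ (x : P12) (v : ℕ), Nat.land (tab x + 16 ^ 12 * v) 0xffffffffffff = tab x := by
    intro x v
    rw [land48, Nat.add_mul_mod_self_left, Nat.mod_eq_of_lt (tab_rep x).lt]
  have h4 : Nat.shiftRight (hcode (a * b)) 48 = bit (a * b).1.right + 2 * bit (a * b).2 := by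
    unfold hcode
    exact top_add (tab_rep _).lt
  rw [h3, h4]
  unfold hcode fcode
  rw [h3]
  show _ + 16 ^ 12 * (_ + 16 ^ 12 * _) = _
  ring

theorem hlf_fl (a : CC) : hlf (mod.fl a) = mod.cd a := hlf_fcode a

/-- coding with full products -/
structure ModF (C : Type*) [Group C] extends Sound.Mod C where
  half_eq : ∀ a, hlf (fl a) = cd a
  fmul : ∀ a b, mulF (fl a) (fl b) = fl (a * b)

/-- the coding with full products -/
noncomputable def modF : ModF CC where
  toMod := mod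
  half_eq := hlf_fl
  fmul := fl_mul

/-- full codes of elements of `M₁₂` -/
theorem fl_el (w : List (Fin 6)) : mod.fl (inM (el w)) = wt w + 16 ^ 12 * wt (w.flatMap im) := by
  show tab (el w : P12) + 16 ^ 12 * tab (al (el w) : P12) + 16 ^ 24 * (bit 1 + 2 * bit 1) = _
  rw [al_el, bit_one, ((tab_rep _).eq_iff (el_rep w)).1 rfl, ((tab_rep _).eq_iff (el_rep (w.flatMap im))).1 rfl]
  ring

/-- full codes of the letters `y p q r s b c t` -/
def gaN (q : ℕ) : ℕ := [0x98ba5073412698ba50734126, 0x7453b19a8062537492b8a601, 0x1026384579ba26104a375b98,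
  0x64031b2a857903642918a75b, 0x89ab31457062ab8942375601, 0x865b2a93470194b2356a7801,
  0x1ba9876543210ba9876543210, 0x2ba9876543210ba9876543210].getD q 0

theorem gaN_lt : ∀ i : Fin 6, gaN i = wt [i] + 16 ^ 12 * wt ([i].flatMap im) := by decide +kernel

theorem fl_ga (q : ℕ) (hq : q < 8) : mod.fl (ga q) = gaN q := by
  rcases (by omega : q < 6 ∨ q = 6 ∨ q = 7) with h | rfl | rfl
  · rw [ga_lt ⟨q, h⟩, ← el_single, fl_el, ← gaN_lt]
  · rw [ga_six]
    show tab ((1 : G12) : P12) + 16 ^ 12 * tab ((al 1 : G12) : P12) + 16 ^ 24 * (bit tau + 2 * bit 1) = _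
    rw [map_one, show ((1 : G12) : P12) = 1 from rfl, tab_one]
    rfl
  · rw [ga_seven]
    show tab ((1 : G12) : P12) + 16 ^ 12 * tab ((al 1 : G12) : P12) + 16 ^ 24 * (bit 1 + 2 * bit tau) = _
    rw [map_one, show ((1 : G12) : P12) = 1 from rfl, tab_one]
    rfl

end Cfsg.Agent.CoThreeStd.DC2.Model
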