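import Cfsg.Agent.CoThreeStd.DC2.Eng
import Mathlib.GroupTheory.Coset.Basic
import Mathlib.Tactic.Group

/-!
# Soundness of the double coset certificate checker (version 2)
-/

set_option autoImplicit false

namespace Cfsg.Agent.CoThreeStd.DC2.Sound

open Cfsg.Agent.Lib.PackMat Cfsg.Agent.CoThreeStd.DC2.Eng

attribute [local irreducible] mulH idN idF at64 at128 slot

theorem cond_true_of {b c : Bool} (h : cond b c false = true) : b = true ∧ c = true := by
  cases b
  · exact absurd h (by simp)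
  · exact ⟨rfl, h⟩

/-- coding of a group by natural numbers (`cd`: half codes, `fl`: full codes) -/
structure Mod (C : Type*) [Group C] where
  /-- the half code -/
  cd : C → ℕ
  /-- the full code -/
  fl : C → ℕ
  inj : Function.Injective cd
  mul : ∀ a b, mulH (cd a) (fl b) = cd (a * b)
  one : cd 1 = idN
  fone : fl 1 = idF

theorem Mod.finj {C : Type*} [Group C] (M : Mod C) : Function.Injective M.fl := by
  intro a b h
  have h1 := M.mul 1 a
  rw [h, M.mul, one_mul, one_mul] at h1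
  exact (M.inj h1).symm

/-- rows of a tree -/
def find : BT → ℕ → Option (ℕ × ℕ)
  | .leaf r n, i => if i = 0 then some (r, n) else none
  | .node l r, i => if Nat.land i 1 = 0 then find l (Nat.shiftRight i 1) else find r (Nat.shiftRight i 1)

theorem look_leaf (r n i : ℕ) (K : ℕ → ℕ → Bool) : look (.leaf r n) i K = cond (Nat.beq i 0) (K r n) false := rfl
theorem look_node (l r : BT) (i : ℕ) (K : ℕ → ℕ → Bool) : look (.node l r) i K =
    cond (Nat.beq (Nat.land i 1) 0) (look l (Nat.shiftRight i 1) K) (look r (Nat.shiftRight i 1) K) := rfl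

theorem look_sound {t : BT} {i : ℕ} {K : ℕ → ℕ → Bool} (h : look t i K = true) :
    ∃ r n, find t i = some (r, n) ∧ K r n = true := by
  induction t generalizing i with
  | leaf r n =>
    rw [look_leaf] at h
    obtain ⟨h1, h2⟩ := cond_true_of h
    have := Nat.eq_of_beq_eq_true h1
    exact ⟨r, n, by rw [find, if_pos this], h2⟩
  | node l r ihl ihr =>
    rw [look_node] at h
    cases hb : Nat.beq (Nat.land i 1) 0 with
    | true =>
      rw [hb] at h
      obtain ⟨r', n', h1, h2⟩ := ihl h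
      exact ⟨r', n', by rw [find, if_pos (Nat.eq_of_beq_eq_true hb)]; exact h1, h2⟩
    | false =>
      rw [hb] at h
      obtain ⟨r', n', h1, h2⟩ := ihr h
      exact ⟨r', n', by rw [find, if_neg (Nat.ne_of_beq_eq_false hb)]; exact h1, h2⟩

theorem tget_sound {l : List Ty} {e : ℕ} {K : ℕ → List Mv → Bool} (h : tget l e K = true) :
    ∃ y ∈ l, K y.w1 y.ws = true := by
  induction l generalizing e with
  | nil => exact absurd (show false = true from h) (by simp)
  | cons a l ih =>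
    cases e with
    | zero => exact ⟨a, List.mem_cons_self, h⟩
    | succ e =>
      obtain ⟨y, hy, h1⟩ := ih (e := e) h
      exact ⟨y, List.mem_cons_of_mem _ hy, h1⟩

section Sem

variable {C H : Type*} [Group C] [Group H]

/-- two elements are in the same coset of the image of `ψ` -/
def Rl (ψ : C →* H) (a b : H) : Prop := a * b⁻¹ ∈ ψ.range

variable {ψ : C →* H} {a b c h : H}

theorem Rl.refl (a : H) : Rl ψ a a := by unfold Rl; rw [mul_inv_cancel]; exact one_mem _
theorem Rl.symm (h : Rl ψ a b) : Rl ψ b a := by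
  unfold Rl at *
  have := inv_mem h
  rwa [mul_inv_rev, inv_inv] at this
theorem Rl.trans (h : Rl ψ a b) (h' : Rl ψ b c) : Rl ψ a c := by
  unfold Rl at *
  have := mul_mem h h'
  rwa [mul_assoc, inv_mul_cancel_left] at this
theorem Rl.mul (h' : Rl ψ a b) (h : H) : Rl ψ (a * h) (b * h) := by
  unfold Rl at *
  have : a * h * (b * h)⁻¹ = a * b⁻¹ := by group
  rwa [this]
theorem Rl.cancel (h' : Rl ψ (a * h) (b * h)) : Rl ψ a b := by
  unfold Rl at *
  have : a * h * (b * h)⁻¹ = a * b⁻¹ := by group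
  rwa [this] at h'
theorem Rl.left (c : C) (a : H) : Rl ψ (ψ c * a) a := by
  unfold Rl
  rw [mul_inv_cancel_right]
  exact ⟨c, rfl⟩
theorem Rl.both (c d : C) : Rl ψ (ψ c) (ψ d) := by
  unfold Rl
  exact mul_mem ⟨_, rfl⟩ (inv_mem ⟨_, rfl⟩)

/-- value of a list of moves -/
inductive Val (M : Mod C) (ψ : C →* H) (g : H) : List Mv → H → Prop
  | nil : Val M ψ g [] 1
  | cons (m : Mv) (ws : List Mv) (w : C) (v : H) (hw : M.fl w = m.w) (hv : Val M ψ g ws v) :
      Val M ψ g (m :: ws) ((if m.sg = 0 then g else g⁻¹) * ψ w * v)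

/-- the data needed for the semantics -/
structure Ctx (M : Mod C) (T : Tabs) (ψ : C →* H) (g : H) (x : ℕ → H) (rr : ℕ → C) : Prop where
  hR : ∀ k ≤ 791, M.fl (rr k) = at128 T.R k ∧ M.cd (rr k) = at64 T.RH k
  hB : ∀ b ≤ 479, ∃ β φ : C, M.fl β = at128 T.B b ∧ M.fl φ = at128 T.F b ∧ ψ β * g = g * ψ φ
  hW : ∀ y ∈ T.W, ∃ (w : C) (v : H), M.fl w = y.w1 ∧ Val M ψ g y.ws v ∧ g * ψ w * v = 1
  x0 : x 0 = 1
  x1 : x 1 = g
  xp : ∀ j p q e, e ≤ 1 → isPar T j p q e = true → x j = x p * ψ (rr q) * (if e = 0 then g else g⁻¹)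

/-- meaning of an edge fact -/
def EF (M : Mod C) (ψ : C →* H) (g : H) (x : ℕ → H) (rr : ℕ → C) (i k j d : ℕ) : Prop :=
  ∃ c : C, M.cd c = d ∧ Rl ψ (x i * ψ (rr k) * g) (x j * ψ c)

/-- meaning of a stabiliser fact -/
def SF (M : Mod C) (ψ : C →* H) (x : ℕ → H) (i d : ℕ) : Prop :=
  ∃ c : C, M.cd c = d ∧ Rl ψ (x i * ψ c) (x i)

/-- meaning of a slot -/
def FactOf (M : Mod C) (ψ : C →* H) (g : H) (x : ℕ → H) (rr : ℕ → C) (i k j d : ℕ) : Prop :=
  (k ≤ 791 → EF M ψ g x rr i k j d) ∧ (791 < k → SF M ψ x i d)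

/-- all facts of rank below `q` -/
def Known (M : Mod C) (T : Tabs) (ψ : C →* H) (g : H) (x : ℕ → H) (rr : ℕ → C) (q : ℕ) : Prop :=
  ∀ i r n k, find T.rows i = some (r, n) → k < n → Nat.shiftRight (slot r k) 57 < q →
    FactOf M ψ g x rr i k (Nat.land (Nat.shiftRight (slot r k) 50) 127) (Nat.land (slot r k) 0x3ffffffffffff)

/-- the vertex `(i, c)` is the coset of `h` -/
def St (M : Mod C) (ψ : C →* H) (x : ℕ → H) (i c : ℕ) (h : H) : Prop :=
  ∃ a : C, M.cd a = c ∧ Rl ψ (x i * ψ a) h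

variable {M : Mod C} {T : Tabs} {g : H} {x : ℕ → H} {rr : ℕ → C}

/-- the element `r_k β_b` -/
def PP (M : Mod C) (T : Tabs) (rr : ℕ → C) (k b : ℕ) (c : C) : Prop :=
  ∃ β : C, M.fl β = at128 T.B b ∧ c = rr k * β

theorem use_sound {q i k : ℕ} {K : ℕ → ℕ → Bool} (hq : Known M T ψ g x rr q) (h : use T q i k K = true) :
    ∃ j d, FactOf M ψ g x rr i k j d ∧ K j d = true := by
  unfold use at h
  obtain ⟨r, n, h1, h2⟩ := look_sound h
  obtain ⟨h3, h4⟩ := cond_true_of h2
  simp only [force_eq] at h4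
  obtain ⟨h5, h6⟩ := cond_true_of h4
  exact ⟨_, _, hq i r n k h1 (Nat.le_of_ble_eq_true h3) (Nat.le_of_ble_eq_true h5), h6⟩

theorem useE_sound {q i k : ℕ} {K : ℕ → ℕ → Bool} (hq : Known M T ψ g x rr q) (h : useE T q i k K = true) :
    ∃ j d, EF M ψ g x rr i k j d ∧ K j d = true := by
  unfold useE at h
  obtain ⟨h1, h2⟩ := cond_true_of h
  obtain ⟨j, d, h3, h4⟩ := use_sound hq h2
  exact ⟨j, d, h3.1 (Nat.le_of_ble_eq_true h1), h4⟩

theorem useS_sound {q i l : ℕ} {K : ℕ → Bool} (hq : Known M T ψ g x rr q) (h : useS T q i l K = true) :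
    ∃ d, SF M ψ x i d ∧ K d = true := by
  unfold useS at h
  obtain ⟨j, d, h3, h4⟩ := use_sound hq h
  exact ⟨d, h3.2 (by show 791 < 792 + l; omega), h4⟩

variable (X : Ctx M T ψ g x rr)

include X

theorem bget_sound' {b : ℕ} {K : ℕ → ℕ → Bool} (h : bget T b K = true) :
    ∃ β φ : C, M.fl β = at128 T.B b ∧ ψ β * g = g * ψ φ ∧ K (M.fl β) (M.fl φ) = true := by
  unfold bget at h
  obtain ⟨h1, h2⟩ := cond_true_of h
  simp only [force_eq] at h2
  obtain ⟨β, φ, e1, e2, e3⟩ := X.hB b (Nat.le_of_ble_eq_true h1)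
  exact ⟨β, φ, e1, e3, by rw [e1, e2]; exact h2⟩

theorem bget_sound {b : ℕ} {K : ℕ → ℕ → Bool} (h : bget T b K = true) :
    ∃ β φ : C, ψ β * g = g * ψ φ ∧ K (M.fl β) (M.fl φ) = true := by
  obtain ⟨β, φ, _, h1, h2⟩ := bget_sound' X h
  exact ⟨β, φ, h1, h2⟩

theorem rget_sound {k : ℕ} {K : ℕ → Bool} (h : rget T k K = true) : k ≤ 791 ∧ K (M.fl (rr k)) = true := by
  unfold rget at h
  obtain ⟨h1, h2⟩ := cond_true_of h
  simp only [force_eq] at h2
  exact ⟨Nat.le_of_ble_eq_true h1, by rw [(X.hR k (Nat.le_of_ble_eq_true h1)).1]; exact h2⟩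

theorem hget_sound {k : ℕ} {K : ℕ → Bool} (h : hget T k K = true) : k ≤ 791 ∧ K (M.cd (rr k)) = true := by
  unfold hget at h
  obtain ⟨h1, h2⟩ := cond_true_of h
  simp only [force_eq] at h2
  exact ⟨Nat.le_of_ble_eq_true h1, by rw [(X.hR k (Nat.le_of_ble_eq_true h1)).2]; exact h2⟩

theorem pget_sound {k b : ℕ} {K : ℕ → Bool} (h : pget T k b K = true) :
    ∃ c : C, PP M T rr k b c ∧ K (M.cd c) = true := by
  unfold pget at h
  obtain ⟨_, h1⟩ := hget_sound X h
  obtain ⟨β, φ, h0, _, h2⟩ := bget_sound' X h1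
  simp only [force_eq] at h2
  rw [M.mul] at h2
  exact ⟨_, ⟨β, h0, rfl⟩, h2⟩

theorem pmul_sound {k b : ℕ} {a c : C} {K : ℕ → Bool} (hc : PP M T rr k b c) (h : pmul T (M.cd a) k b K = true) :
    K (M.cd (a * c)) = true := by
  unfold pmul at h
  obtain ⟨_, h1⟩ := rget_sound X h
  obtain ⟨β, φ, h0, _, h2⟩ := bget_sound' X h1
  obtain ⟨β', h3, rfl⟩ := hc
  rw [← h3] at h0
  have := M.finj h0
  subst this
  simp only [force_eq] at h2
  rw [M.mul, M.mul, mul_assoc] at h2
  exact h2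

omit X in
theorem mulW_sound {i c : ℕ} {w : C} {h : H} {K : ℕ → Bool} (hs : St M ψ x i c h) (hk : mulW c (M.fl w) K = true) :
    ∃ d, St M ψ x i d (h * ψ w) ∧ K d = true := by
  unfold mulW at hk
  cases hb : Nat.beq (M.fl w) idF with
  | true =>
    rw [hb] at hk
    have h1 := Nat.eq_of_beq_eq_true hb
    rw [← M.fone] at h1
    have h2 := M.finj h1
    refine ⟨c, ?_, hk⟩
    rw [h2, map_one, mul_one]
    exact hs
  | false =>
    rw [hb] at hk
    simp only [cond_false, force_eq] at hk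
    obtain ⟨a, rfl, h1⟩ := hs
    rw [M.mul] at hk
    refine ⟨_, ⟨a * w, rfl, ?_⟩, hk⟩
    rw [map_mul, ← mul_assoc]
    exact h1.mul _

theorem edge_sound {q i c k b : ℕ} {h : H} {K : ℕ → ℕ → Bool} (hq : Known M T ψ g x rr q) (hs : St M ψ x i c h)
    (hk : edge T q i c k b K = true) : ∃ j d, St M ψ x j d (h * g) ∧ K j d = true := by
  unfold edge at hk
  obtain ⟨_, h1⟩ := hget_sound X hk
  obtain ⟨β, φ, hβ, h2⟩ := bget_sound X h1
  obtain ⟨h3, h4⟩ := cond_true_of h2
  have h5 := Nat.eq_of_beq_eq_true h3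
  obtain ⟨a, rfl, ha⟩ := hs
  rw [M.mul] at h5
  have h6 := M.inj h5
  subst h6
  have h7 : Rl ψ (x i * ψ (rr k) * g * ψ φ) (h * g) := by
    have : x i * ψ (rr k) * g * ψ φ = x i * ψ (rr k * β) * g := by
      rw [map_mul, mul_assoc _ g, ← hβ]; simp only [mul_assoc]
    rw [this]
    exact ha.mul g
  cases hb : Nat.beq i 0 with
  | true =>
    rw [hb] at h4
    simp only [cond_true, force_eq] at h4
    rw [← M.one, M.mul, one_mul] at h4
    have h8 := Nat.eq_of_beq_eq_true hb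
    subst h8
    refine ⟨1, _, ⟨φ, rfl, ?_⟩, h4⟩
    rw [X.x1]
    rw [X.x0, one_mul] at h7
    refine Rl.trans ?_ h7
    exact ((Rl.left (rr k) g).mul _).symm
  | false =>
    rw [hb] at h4
    obtain ⟨j, d, ⟨e, rfl, h8⟩, h9⟩ := useE_sound hq h4
    simp only [force_eq] at h9
    rw [M.mul] at h9
    refine ⟨j, _, ⟨e * φ, rfl, ?_⟩, h9⟩
    rw [map_mul, ← mul_assoc]
    exact (h8.mul (ψ φ)).symm.trans h7

theorem slotI_sound {q i k : ℕ} {K : ℕ → ℕ → Bool} (hq : Known M T ψ g x rr q) (h : slotI T q i k K = true) :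
    ∃ j d, EF M ψ g x rr i k j d ∧ K j d = true := by
  unfold slotI at h
  cases hb : Nat.beq i 0 with
  | true =>
    rw [hb] at h
    have h8 := Nat.eq_of_beq_eq_true hb
    subst h8
    refine ⟨1, _, ⟨1, M.one, ?_⟩, h⟩
    rw [X.x0, X.x1, map_one, mul_one, one_mul]
    exact Rl.left _ _
  | false =>
    rw [hb] at h
    exact useE_sound hq h

theorem stepG_sound {q s i c : ℕ} {h : H} {K : ℕ → ℕ → ℕ → Bool} (hq : Known M T ψ g x rr q)
    (hs : St M ψ x i c h) (hk : stepG T q s i c K = true) :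
    ∃ s' j d, St M ψ x j d (h * g) ∧ K s' j d = true := by
  unfold stepG at hk
  simp only [force_eq] at hk
  obtain ⟨j, d, h1, h2⟩ := edge_sound X hq hs hk
  exact ⟨_, j, d, h1, h2⟩

theorem stepI_sound {q s j c : ℕ} {h : H} {K : ℕ → ℕ → ℕ → Bool} (hq : Known M T ψ g x rr q)
    (hs : St M ψ x j c h) (hk : stepI T q s j c K = true) :
    ∃ s' i d, St M ψ x i d (h * g⁻¹) ∧ K s' i d = true := by
  unfold stepI at hk
  simp only [force_eq] at hk
  obtain ⟨β, φ, hβ, hk⟩ := bget_sound X hk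
  replace hk := hget_sound X hk
  obtain ⟨_, hk⟩ := hk
  replace hk := slotI_sound X hq hk
  obtain ⟨j', d', ⟨e, rfl, he⟩, hk⟩ := hk
  replace hk := cond_true_of hk
  obtain ⟨h1, hk⟩ := hk
  have h1' := Nat.eq_of_beq_eq_true h1
  subst h1'
  rw [M.mul, M.mul] at hk
  obtain ⟨a, rfl, ha⟩ := hs
  set i := Nat.land s 127
  set k := Nat.land (Nat.shiftRight s 7) 1023
  have key : Rl ψ (x i * ψ (rr k * β) * g) (x j' * ψ (e * φ)) := by
    have : x i * ψ (rr k * β) * g = x i * ψ (rr k) * g * ψ φ := by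
      rw [map_mul, mul_assoc _ g, ← hβ]; simp only [mul_assoc]
    rw [this, map_mul, ← mul_assoc (x j')]
    exact he.mul _
  have fin : Rl ψ (x i * ψ (rr k * β) * g) h → St M ψ x i (M.cd (rr k * β)) (h * g⁻¹) := by
    intro hh
    refine ⟨_, rfl, ?_⟩
    have := hh.mul g⁻¹
    rwa [mul_inv_cancel_right] at this
  cases hb : Nat.beq j' 0 with
  | true =>
    rw [hb] at hk
    have h8 := Nat.eq_of_beq_eq_true hb
    subst h8
    refine ⟨_, _, _, fin ?_, hk⟩
    refine (key.trans ?_).trans ha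
    rw [X.x0, one_mul, one_mul]
    exact Rl.both _ _
  | false =>
    rw [hb] at hk
    replace hk : cond (Nat.beq (Nat.land (Nat.shiftRight s 26) 2047) 0) _ _ = true := hk
    cases hl : Nat.beq (Nat.land (Nat.shiftRight s 26) 2047) 0 with
    | true =>
      rw [hl] at hk
      replace hk := cond_true_of hk
      obtain ⟨h2, hk⟩ := hk
      have h3 := M.inj (Nat.eq_of_beq_eq_true h2)
      rw [← h3] at ha
      exact ⟨_, _, _, fin (key.trans ha), hk⟩
    | false =>
      rw [hl, cond_false] at hk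
      replace hk := pget_sound X hk
      obtain ⟨c2, hc2, hk⟩ := hk
      replace hk := cond_true_of hk
      obtain ⟨h2, hk⟩ := hk
      have h3 := M.inj (Nat.eq_of_beq_eq_true h2)
      replace hk := useS_sound hq hk
      obtain ⟨u, ⟨u, rfl, hu⟩, hk⟩ := hk
      replace hk := pmul_sound X hc2 hk
      replace hk := cond_true_of hk
      obtain ⟨h4, hk⟩ := hk
      have h5 := M.inj (Nat.eq_of_beq_eq_true h4)
      refine ⟨_, _, _, fin ?_, hk⟩
      refine key.trans ?_
      refine Rl.trans ?_ ha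
      rw [← h5, h3, map_mul, ← mul_assoc]
      exact (hu.mul _).symm

theorem walk_sound {q : ℕ} {ws : List Mv} {v : H} (hv : Val M ψ g ws v) (hq : Known M T ψ g x rr q) :
    ∀ {s i c : ℕ} {h : H} {K : ℕ → ℕ → ℕ → Bool},
    St M ψ x i c h → walk T q ws s i c K = true →
    ∃ s' j d, St M ψ x j d (h * v) ∧ K s' j d = true := by
  induction hv with
  | nil =>
    intro s i c h K hs hk
    exact ⟨s, i, c, by rw [mul_one]; exact hs, hk⟩
  | cons m ws w v hw hv ih =>
    intro s i c h K hs hk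
    replace hk : cond (Nat.beq m.sg 0)
      (stepG T q s i c fun s i c => mulW c m.w fun c => walk T q ws s i c K)
      (stepI T q s i c fun s i c => mulW c m.w fun c => walk T q ws s i c K) = true := hk
    rw [← hw] at hk
    cases hb : Nat.beq m.sg 0 with
    | true =>
      rw [hb, cond_true] at hk
      rw [if_pos (Nat.eq_of_beq_eq_true hb)]
      obtain ⟨s1, i1, c1, h1, hk⟩ := stepG_sound X hq hs hk
      obtain ⟨c2, h2, hk⟩ := mulW_sound h1 hk
      obtain ⟨s3, i3, c3, h3, hk⟩ := ih h2 hk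
      refine ⟨s3, i3, c3, ?_, hk⟩
      rw [← mul_assoc, ← mul_assoc]
      exact h3
    | false =>
      rw [hb, cond_false] at hk
      rw [if_neg (Nat.ne_of_beq_eq_false hb)]
      obtain ⟨s1, i1, c1, h1, hk⟩ := stepI_sound X hq hs hk
      obtain ⟨c2, h2, hk⟩ := mulW_sound h1 hk
      obtain ⟨s3, i3, c3, h3, hk⟩ := ih h2 hk
      refine ⟨s3, i3, c3, ?_, hk⟩
      rw [← mul_assoc, ← mul_assoc]
      exact h3

theorem kind0_sound {q i0 k0 j0 d0 s : ℕ} (hq : Known M T ψ g x rr q) (h : kind0 T q i0 k0 j0 d0 s = true) :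
    EF M ψ g x rr i0 k0 j0 d0 := by
  unfold kind0 at h
  simp only [force_eq] at h
  replace h := tget_sound h
  obtain ⟨y, hy, h⟩ := h
  obtain ⟨w, v, hw, hv, hr⟩ := X.hW y hy
  rw [← hw] at h
  replace h := pget_sound X h
  obtain ⟨c0, _, h⟩ := h
  replace h := bget_sound X h
  obtain ⟨β, φ, hβ, h⟩ := h
  replace h := cond_true_of h
  obtain ⟨h1, h⟩ := h
  obtain rfl := Nat.eq_of_beq_eq_true h1
  replace h := mulW_sound (i := j0) (h := x j0 * ψ c0) ⟨c0, rfl, Rl.refl _⟩ h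
  obtain ⟨c, h2, h⟩ := h
  replace h := walk_sound X hv hq h2 h
  obtain ⟨s', i, c, h2, h⟩ := h
  replace h := cond_true_of h
  obtain ⟨h3, h⟩ := h
  obtain rfl := Nat.eq_of_beq_eq_true h3
  replace h := hget_sound X h
  obtain ⟨_, h⟩ := h
  have h6 := Nat.eq_of_beq_eq_true h
  refine ⟨c0 * φ, (M.mul _ _).symm, ?_⟩
  obtain ⟨a, rfl, h8⟩ := h2
  rw [M.mul] at h6
  have h9 := M.inj h6
  rw [← h9]
  have e1 : x i * ψ (a * β) * g = x i * ψ a * g * ψ φ := by
    rw [map_mul, mul_assoc _ g, ← hβ]; simp only [mul_assoc]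
  have e0 : ψ w * v * g = 1 := by
    have : ψ w * v * g = g⁻¹ * (g * ψ w * v) * g := by group
    rw [this, hr]
    group
  have e2 : x j0 * ψ (c0 * φ) = x j0 * ψ c0 * ψ w * v * g * ψ φ := by
    rw [map_mul]
    calc x j0 * (ψ c0 * ψ φ) = x j0 * ψ c0 * 1 * ψ φ := by group
      _ = _ := by rw [← e0]; simp only [mul_assoc]
  rw [e1, e2]
  exact (h8.mul g).mul _

theorem kind1_sound {q i0 d0 s : ℕ} (hq : Known M T ψ g x rr q) (h : kind1 T q i0 d0 s = true) :
    SF M ψ x i0 d0 := by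
  unfold kind1 at h
  simp only [force_eq] at h
  replace h := tget_sound h
  obtain ⟨y, hy, h⟩ := h
  obtain ⟨w, v, hw, hv, hr⟩ := X.hW y hy
  rw [← hw] at h
  replace h := pget_sound X h
  obtain ⟨c1, _, h⟩ := h
  replace h := cond_true_of h
  obtain ⟨h1, h⟩ := h
  obtain rfl := Nat.eq_of_beq_eq_true h1
  replace h := pget_sound X h
  obtain ⟨c0, hc0, h⟩ := h
  replace h := stepG_sound X hq (i := i0) (h := x i0 * ψ c0) ⟨c0, rfl, Rl.refl _⟩ h
  obtain ⟨s1, i1, c, h2, h⟩ := h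
  replace h := mulW_sound h2 h
  obtain ⟨c, h2, h⟩ := h
  replace h := walk_sound X hv hq h2 h
  obtain ⟨s', i, c, h2, h⟩ := h
  replace h := cond_true_of h
  obtain ⟨h3, h⟩ := h
  obtain rfl := Nat.eq_of_beq_eq_true h3
  replace h := pmul_sound X hc0 h
  have h4 := Nat.eq_of_beq_eq_true h
  obtain ⟨a, rfl, h5⟩ := h2
  have h6 := M.inj h4
  refine ⟨c1, rfl, ?_⟩
  have e1 : x i * ψ c0 * g * ψ w * v = x i * ψ c0 := by
    have : x i * ψ c0 * g * ψ w * v = x i * ψ c0 * (g * ψ w * v) := by simp only [mul_assoc]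
    rw [this, hr, mul_one]
  rw [e1, ← h6, map_mul, ← mul_assoc] at h5
  exact h5.cancel

theorem kind3_sound {q i0 k0 j0 d0 s : ℕ} (hq : Known M T ψ g x rr q) (h : kind3 T q i0 k0 j0 d0 s = true) :
    EF M ψ g x rr i0 k0 j0 d0 := by
  unfold kind3 at h
  simp only [force_eq] at h
  replace h := rget_sound X h
  obtain ⟨_, h⟩ := h
  replace h := useS_sound hq h
  obtain ⟨c, ⟨c, rfl, hc⟩, h⟩ := h
  replace h := bget_sound X h
  obtain ⟨β, φ, hβ, h⟩ := h
  replace h := hget_sound X h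
  obtain ⟨_, h⟩ := h
  replace h := cond_true_of h
  obtain ⟨h1, h⟩ := h
  replace h := useE_sound hq h
  obtain ⟨j, d, ⟨d, rfl, h3⟩, h⟩ := h
  replace h := cond_true_of h
  obtain ⟨h4, h⟩ := h
  obtain rfl := Nat.eq_of_beq_eq_true h4
  have h5 := Nat.eq_of_beq_eq_true h
  have h6 := Nat.eq_of_beq_eq_true h1
  rw [M.mul, M.mul] at h6
  have h8 := M.inj h6
  rw [M.mul] at h5
  refine ⟨_, h5.symm, ?_⟩
  rw [← h8]
  set k := Nat.land s 1023
  have e1 : x i0 * ψ (c * rr k * β) * g = x i0 * ψ c * (ψ (rr k) * g * ψ φ) := by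
    rw [map_mul, map_mul, mul_assoc _ g, ← hβ]; simp only [mul_assoc]
  have e2 : x i0 * (ψ (rr k) * g * ψ φ) = x i0 * ψ (rr k) * g * ψ φ := by simp only [mul_assoc]
  have e3 : x j0 * ψ (d * φ) = x j0 * ψ d * ψ φ := by rw [map_mul, mul_assoc]
  rw [e1, e3]
  refine (hc.mul _).trans ?_
  rw [e2]
  exact h3.mul _

theorem kind4_sound {q i0 d0 s : ℕ} (hq : Known M T ψ g x rr q) (h : kind4 T q i0 d0 s = true) :
    SF M ψ x i0 d0 := by
  unfold kind4 at h
  simp only [force_eq] at h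
  replace h := useS_sound hq h
  obtain ⟨c, ⟨c, rfl, hc⟩, h⟩ := h
  replace h := useS_sound hq h
  obtain ⟨d, ⟨d, rfl, hd⟩, h⟩ := h
  replace h := pget_sound X h
  obtain ⟨d', hd', h⟩ := h
  replace h := cond_true_of h
  obtain ⟨h1, h⟩ := h
  have h2 := M.inj (Nat.eq_of_beq_eq_true h1)
  subst h2
  replace h := pmul_sound X hd' h
  have h5 := Nat.eq_of_beq_eq_true h
  refine ⟨_, h5.symm, ?_⟩
  rw [map_mul, ← mul_assoc]
  exact (hc.mul _).trans hd

theorem kind5_sound {q i0 d0 s : ℕ} (hq : Known M T ψ g x rr q) (h : kind5 T q i0 d0 s = true) :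
    SF M ψ x i0 d0 := by
  unfold kind5 at h
  simp only [force_eq] at h
  replace h := pget_sound X h
  obtain ⟨c1, _, h⟩ := h
  replace h := cond_true_of h
  obtain ⟨h1, h⟩ := h
  obtain rfl := Nat.eq_of_beq_eq_true h1
  replace h := rget_sound X h
  obtain ⟨_, h⟩ := h
  replace h := hget_sound X h
  obtain ⟨_, h⟩ := h
  replace h := bget_sound X h
  obtain ⟨β, φ, hβ, h⟩ := h
  replace h := useS_sound hq h
  obtain ⟨c, ⟨c, rfl, hc⟩, h⟩ := h
  replace h := cond_true_of h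
  obtain ⟨h2, h⟩ := h
  replace h := useE_sound hq h
  obtain ⟨j, d, ⟨d, rfl, h3⟩, h⟩ := h
  replace h := useE_sound hq h
  obtain ⟨j2, d2, ⟨d2, rfl, h4⟩, h⟩ := h
  replace h := cond_true_of h
  obtain ⟨h5, h⟩ := h
  obtain rfl := Nat.eq_of_beq_eq_true h5
  replace h := cond_true_of h
  obtain ⟨h5, h⟩ := h
  obtain rfl := Nat.eq_of_beq_eq_true h5
  replace h := pget_sound X h
  obtain ⟨e, he, h⟩ := h
  replace h := cond_true_of h
  obtain ⟨h5, h⟩ := h
  replace h := pmul_sound X he h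
  have h6 := Nat.eq_of_beq_eq_true h
  have h7 := Nat.eq_of_beq_eq_true h2
  have h10 := Nat.eq_of_beq_eq_true h5
  rw [M.mul] at h10
  rw [M.mul, M.mul] at h7
  have h8 := M.inj h6
  have h9 := M.inj h7
  have h12 := M.inj h10
  subst h12
  refine ⟨c1, rfl, ?_⟩
  set k := Nat.land (Nat.shiftRight s 26) 1023
  set k2 := Nat.land (Nat.shiftRight s 36) 1023
  set i := Nat.land (Nat.shiftRight s 19) 127
  rw [← h9] at h4
  rw [← h8] at h4
  have e1 : x i * ψ (c * rr k * β) * g = x i * ψ c * (ψ (rr k) * g * ψ φ) := by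
    rw [map_mul, map_mul, mul_assoc _ g, ← hβ]; simp only [mul_assoc]
  have e2 : x i * (ψ (rr k) * g * ψ φ) = x i * ψ (rr k) * g * ψ φ := by simp only [mul_assoc]
  rw [e1] at h4
  have h10 := (hc.mul (ψ (rr k) * g * ψ φ)).symm.trans h4
  rw [e2] at h10
  have h11 := (h3.mul (ψ φ)).symm.trans h10
  have e3 : x j2 * ψ d * ψ φ = x j2 * (ψ d * ψ φ) := by simp only [mul_assoc]
  have e4 : x j2 * ψ (c1 * (d * φ)) = x j2 * ψ c1 * (ψ d * ψ φ) := by
    rw [map_mul, map_mul]; simp only [mul_assoc]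
  rw [e3, e4] at h11
  exact h11.symm.cancel

theorem kind6_sound {q i0 d0 s : ℕ} (hq : Known M T ψ g x rr q) (h : kind6 T q i0 d0 s = true) :
    SF M ψ x i0 d0 := by
  unfold kind6 at h
  simp only [force_eq] at h
  replace h := pget_sound X h
  obtain ⟨c1, _, h⟩ := h
  replace h := cond_true_of h
  obtain ⟨h1, h⟩ := h
  obtain rfl := Nat.eq_of_beq_eq_true h1
  replace h := rget_sound X h
  obtain ⟨_, h⟩ := h
  replace h := hget_sound X h
  obtain ⟨_, h⟩ := h
  replace h := bget_sound X h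
  obtain ⟨β, φ, hβ, h⟩ := h
  replace h := cond_true_of h
  obtain ⟨h2, h⟩ := h
  replace h := useE_sound hq h
  obtain ⟨j, d, ⟨d, rfl, h3⟩, h⟩ := h
  replace h := useE_sound hq h
  obtain ⟨j2, d2, ⟨d2, rfl, h4⟩, h⟩ := h
  replace h := cond_true_of h
  obtain ⟨h5, h⟩ := h
  have h5' := Nat.eq_of_beq_eq_true h5
  replace h := cond_true_of h
  obtain ⟨h6, h⟩ := h
  have h6' := Nat.eq_of_beq_eq_true h6
  have h7 := Nat.eq_of_beq_eq_true h2
  rw [M.mul, M.mul] at h7
  have h9 := M.inj h7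
  refine ⟨c1, rfl, ?_⟩
  set k := Nat.land (Nat.shiftRight s 26) 1023
  set k2 := Nat.land (Nat.shiftRight s 36) 1023
  set jj := Nat.land (Nat.shiftRight s 19) 127
  subst h5'
  rw [h6'] at h4
  -- `x_i r_k β g ~ x_j d φ`
  have e1 : x i0 * ψ (rr k * β) * g = x i0 * ψ (rr k) * g * ψ φ := by
    rw [map_mul, mul_assoc _ g, ← hβ]; simp only [mul_assoc]
  have h10 : Rl ψ (x i0 * ψ (rr k * β) * g) (x jj * ψ (d * φ)) := by
    rw [e1, map_mul ψ d, ← mul_assoc (x jj)]
    exact h3.mul _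
  have h11 : Rl ψ (x jj * ψ (d * φ)) (x jj * ψ d2) := by
    cases hb : Nat.beq jj 0 with
    | true =>
      have h8 := Nat.eq_of_beq_eq_true hb
      rw [h8, X.x0, one_mul, one_mul]
      exact Rl.both _ _
    | false =>
      rw [hb] at h
      replace h := useS_sound hq h
      obtain ⟨c, ⟨c, rfl, hc⟩, h⟩ := h
      replace h := pget_sound X h
      obtain ⟨e, he, h⟩ := h
      replace h := cond_true_of h
      obtain ⟨h5, h⟩ := h
      replace h := pmul_sound X he h
      have h12 := Nat.eq_of_beq_eq_true h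
      have h14 := Nat.eq_of_beq_eq_true h5
      rw [M.mul] at h14
      have h13 := M.inj h12
      have h15 := M.inj h14
      rw [← h13, ← h15, map_mul ψ c, ← mul_assoc]
      exact (hc.mul _).symm
  have h12 := (h10.trans h11).trans h4.symm
  have h13 := h12.cancel
  rw [← h9, mul_assoc, map_mul ψ c1, ← mul_assoc] at h13
  exact h13.cancel.symm

theorem kind9_sound {i0 k0 j0 d0 : ℕ} (h : kind9 T i0 k0 j0 d0 = true) : EF M ψ g x rr i0 k0 j0 d0 := by
  unfold kind9 at h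
  replace h := cond_true_of h
  obtain ⟨h1, h⟩ := h
  obtain rfl := Nat.eq_of_beq_eq_true h1
  have h2 := X.xp _ _ _ _ (Nat.zero_le _) h
  refine ⟨1, M.one, ?_⟩
  rw [if_pos rfl] at h2
  rw [h2, map_one, mul_one]
  exact Rl.refl _

theorem kind10_sound {i0 k0 j0 d0 s : ℕ} (h0 : rr 0 = 1) (h : kind10 T i0 k0 j0 d0 s = true) :
    EF M ψ g x rr i0 k0 j0 d0 := by
  unfold kind10 at h
  replace h := cond_true_of h
  obtain ⟨h1, h⟩ := h
  obtain rfl := Nat.eq_of_beq_eq_true h1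
  replace h := hget_sound X h
  obtain ⟨_, h⟩ := h
  replace h := cond_true_of h
  obtain ⟨h1, h⟩ := h
  obtain rfl := Nat.eq_of_beq_eq_true h1
  have h2 := X.xp _ _ _ _ (le_refl 1) h
  refine ⟨rr s, rfl, ?_⟩
  rw [if_neg one_ne_zero] at h2
  rw [h2, h0, map_one, mul_one, inv_mul_cancel_right]
  exact Rl.refl _

theorem kind7_sound {i0 d0 s : ℕ} (h : kind7 T i0 d0 s = true) : SF M ψ x i0 d0 := by
  unfold kind7 at h
  replace h := cond_true_of h
  obtain ⟨h1, h⟩ := h
  obtain rfl := Nat.eq_of_beq_eq_true h1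
  replace h := bget_sound X h
  obtain ⟨β, φ, hβ, h⟩ := h
  have h2 := Nat.eq_of_beq_eq_true h
  rw [← M.one, M.mul, one_mul] at h2
  refine ⟨φ, h2.symm, ?_⟩
  rw [X.x1, ← hβ]
  exact Rl.left _ _

omit X in
theorem selE_sound {e : ℕ} {a3 a0 a9 a10 : Bool} (h : selE e a3 a0 a9 a10 = true) :
    a3 = true ∨ a0 = true ∨ a9 = true ∨ a10 = true := by
  unfold selE at h
  cases h1 : Nat.beq e 3 <;> cases h2 : Nat.beq e 0 <;> cases h3 : Nat.beq e 9 <;> cases h4 : Nat.beq e 10 <;>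
    simp_all

omit X in
theorem selS_sound {e : ℕ} {a4 a1 a5 a6 a7 a8 : Bool} (h : selS e a4 a1 a5 a6 a7 a8 = true) :
    a4 = true ∨ a1 = true ∨ a5 = true ∨ a6 = true ∨ a7 = true ∨ a8 = true := by
  unfold selS at h
  cases h1 : Nat.beq e 4 <;> cases h2 : Nat.beq e 1 <;> cases h3 : Nat.beq e 5 <;> cases h4 : Nat.beq e 6 <;>
    cases h5 : Nat.beq e 7 <;> cases h6 : Nat.beq e 8 <;> simp_all

theorem chk_sound (h0 : rr 0 = 1) {N i k r s : ℕ} (hq : Known M T ψ g x rr (Nat.shiftRight (slot r k) 57))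
    (h : chk T N i k r s = true) : FactOf M ψ g x rr i k (Nat.land (Nat.shiftRight (slot r k) 50) 127)
      (Nat.land (slot r k) 0x3ffffffffffff) ∧ (k ≤ 791 → Nat.land (Nat.shiftRight (slot r k) 50) 127 ≤ N) := by
  unfold chk at h
  simp only [force_eq] at h
  cases hk : Nat.ble k 791 with
  | true =>
    rw [hk, cond_true] at h
    replace h := cond_true_of h
    obtain ⟨h1, h⟩ := h
    have hk' := Nat.le_of_ble_eq_true hk
    have h1' := Nat.le_of_ble_eq_true h1
    refine ⟨⟨fun _ => ?_, fun h => absurd h (by omega)⟩, fun _ => h1'⟩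
    rcases selE_sound h with h | h | h | h
    · exact kind3_sound X hq h
    · exact kind0_sound X hq h
    · exact kind9_sound X h
    · exact kind10_sound X h0 h
  | false =>
    rw [hk, cond_false] at h
    have hk' : 791 < k := by
      by_contra hc
      rw [Nat.ble_eq_true_of_le (by omega)] at hk
      exact absurd hk (by simp)
    refine ⟨⟨fun h => absurd h (by omega), fun _ => ?_⟩, fun h => absurd h (by omega)⟩
    rcases selS_sound h with h | h | h | h | h | h
    · exact kind4_sound X hq h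
    · exact kind1_sound X hq h
    · exact kind5_sound X hq h
    · exact kind6_sound X hq h
    · exact kind7_sound X h
    · refine ⟨1, ?_, ?_⟩
      · rw [Nat.eq_of_beq_eq_true h]; exact M.one
      · rw [map_one, mul_one]; exact Rl.refl _

omit X in
theorem chkRow_sound {N i r : ℕ} (l : List ℕ) : ∀ {k : ℕ}, chkRow T N i r l k = true →
    ∀ m < l.length, ∃ s, chk T N i (k + m) r s = true := by
  induction l with
  | nil => intro k _ m hm; exact absurd hm (by simp)
  | cons s l ih =>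
    intro k h m hm
    replace h : cond (chk T N i k r s) (chkRow T N i r l (k + 1)) false = true := h
    obtain ⟨h1, h2⟩ := cond_true_of h
    cases m with
    | zero => exact ⟨s, h1⟩
    | succ m =>
      obtain ⟨s', hs⟩ := ih h2 m (by rw [List.length_cons] at hm; omega)
      exact ⟨s', by rw [show k + (m + 1) = k + 1 + m by omega]; exact hs⟩

omit X in
theorem rowOK_sound {N i : ℕ} {l : List ℕ} (h : rowOK T N i l = true) {r n : ℕ} (hf : find T.rows i = some (r, n)) :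
    792 ≤ n ∧ ∀ k < n, ∃ s, chk T N i k r s = true := by
  unfold rowOK at h
  obtain ⟨r', n', h1, h2⟩ := look_sound h
  rw [hf] at h1
  obtain ⟨rfl, rfl⟩ := Prod.mk.inj (Option.some.inj h1)
  obtain ⟨h3, h⟩ := cond_true_of h2
  replace h := cond_true_of h
  obtain ⟨h4, h⟩ := h
  have h5 := Nat.eq_of_beq_eq_true h3
  refine ⟨Nat.le_of_ble_eq_true h4, fun k hk => ?_⟩
  obtain ⟨s, hs⟩ := chkRow_sound l h k (by rw [h5]; exact hk)
  exact ⟨s, by rw [Nat.zero_add] at hs; exact hs⟩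

/-- **Soundness**: all facts hold. -/
theorem known {N : ℕ} (h0 : rr 0 = 1)
    (hrows : ∀ i r n, find T.rows i = some (r, n) → n = 0 ∨ ∃ l, rowOK T N i l = true)
    (q : ℕ) : Known M T ψ g x rr q := by
  induction q with
  | zero => intro i r n k _ _ h; exact absurd h (by simp)
  | succ q ih =>
    intro i r n k hf hk hr
    rcases hrows i r n hf with rfl | ⟨l, hl⟩
    · exact absurd hk (by simp)
    · obtain ⟨s, hs⟩ := (rowOK_sound hl hf).2 k hk
      have : Known M T ψ g x rr (Nat.shiftRight (slot r k) 57) := by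
        intro i' r' n' k' hf' hk' hr'
        exact ih i' r' n' k' hf' hk' (by omega)
      exact (chk_sound X h0 this hs).1

end Sem

end Cfsg.Agent.CoThreeStd.DC2.Sound
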